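import Mathlib.Algebra.Homology.Homotopy
import Mathlib.CategoryTheory.MorphismProperty.Composition
import Mathlib.CategoryTheory.Localization.Prod

/-!
# Functors of several complexes which identify homotopic maps invert homotopy equivalences
-/

set_option autoImplicit false
universe v u v₄ u₄
open CategoryTheory

namespace Groth.Agent.H45.MultiDer

variable {A₁ : Type u} [Category.{v} A₁] [Preadditive A₁]
  {A₂ : Type u} [Category.{v} A₂] [Preadditive A₂]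
  {A₃ : Type u} [Category.{v} A₃] [Preadditive A₃]
  {H : Type u₄} [Category.{v₄} H]

local notation "he" A => HomologicalComplex.homotopyEquivalences A (ComplexShape.up ℤ)

lemma isInvertedBy₁ (F : CochainComplex A₁ ℤ ⥤ H)
    (hF : ∀ ⦃P P' : CochainComplex A₁ ℤ⦄ (φ ψ : P ⟶ P'), Homotopy φ ψ → F.map φ = F.map ψ) :
    (he A₁).IsInvertedBy F := by
  rintro P P' f ⟨e, rfl⟩
  refine ⟨F.map e.inv, ?_, ?_⟩
  · rw [← F.map_comp, hF _ _ e.homotopyHomInvId, F.map_id]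
  · rw [← F.map_comp, hF _ _ e.homotopyInvHomId, F.map_id]

lemma isInvertedBy₂ (F : CochainComplex A₁ ℤ × CochainComplex A₂ ℤ ⥤ H)
    (hF : ∀ ⦃P P' : CochainComplex A₁ ℤ × CochainComplex A₂ ℤ⦄ (φ ψ : P ⟶ P'),
      Homotopy φ.1 ψ.1 → Homotopy φ.2 ψ.2 → F.map φ = F.map ψ) :
    ((he A₁).prod (he A₂)).IsInvertedBy F := by
  rintro ⟨P₁, P₂⟩ ⟨P₁', P₂'⟩ ⟨f₁, f₂⟩ ⟨⟨e₁, h₁⟩, ⟨e₂, h₂⟩⟩
  dsimp at e₁ e₂ h₁ h₂ f₁ f₂
  subst h₁ h₂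
  refine ⟨F.map ((e₁.inv, e₂.inv) : (P₁', P₂') ⟶ (P₁, P₂)), ?_, ?_⟩
  · rw [← F.map_comp, ← F.map_id]
    exact hF _ _ e₁.homotopyHomInvId e₂.homotopyHomInvId
  · rw [← F.map_comp, ← F.map_id]
    exact hF _ _ e₁.homotopyInvHomId e₂.homotopyInvHomId

lemma isInvertedBy₃
    (F : CochainComplex A₁ ℤ × (CochainComplex A₂ ℤ × CochainComplex A₃ ℤ) ⥤ H)
    (hF : ∀ ⦃P P' : CochainComplex A₁ ℤ × (CochainComplex A₂ ℤ × CochainComplex A₃ ℤ)⦄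
      (φ ψ : P ⟶ P'), Homotopy φ.1 ψ.1 → Homotopy φ.2.1 ψ.2.1 → Homotopy φ.2.2 ψ.2.2 →
      F.map φ = F.map ψ) :
    ((he A₁).prod ((he A₂).prod (he A₃))).IsInvertedBy F := by
  rintro ⟨P₁, P₂, P₃⟩ ⟨P₁', P₂', P₃'⟩ ⟨f₁, f₂, f₃⟩ ⟨⟨e₁, h₁⟩, ⟨e₂, h₂⟩, ⟨e₃, h₃⟩⟩
  dsimp at e₁ e₂ e₃ h₁ h₂ h₃ f₁ f₂ f₃
  subst h₁ h₂ h₃
  refine ⟨F.map ((e₁.inv, (e₂.inv, e₃.inv)) : (P₁', (P₂', P₃')) ⟶ (P₁, (P₂, P₃))), ?_, ?_⟩
  · rw [← F.map_comp, ← F.map_id]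
    exact hF _ _ e₁.homotopyHomInvId e₂.homotopyHomInvId e₃.homotopyHomInvId
  · rw [← F.map_comp, ← F.map_id]
    exact hF _ _ e₁.homotopyInvHomId e₂.homotopyInvHomId e₃.homotopyInvHomId

end Groth.Agent.H45.MultiDer
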