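import Groth.Agent.H45.MultiDer.CxSetting
import Mathlib.Algebra.Homology.DerivedCategory.Basic

/-!
# Left derived functors of functors of several complexes

User-level statements: let `A₁`, `A₂` (, `A₃`) be abelian categories with classes `kf₁`, `kf₂`
(, `kf₃`) of complexes satisfying `H5.ResDerivLeft.Hyp`. Let `F` be a functor defined on
`CochainComplex A₁ ℤ × CochainComplex A₂ ℤ` which inverts pairs of homotopy equivalences,
and pairs of quasi-isomorphisms between pairs of `kf`-complexes. Then for any left derived functor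
`(LF, α)` of `F` along `Q × Q` with respect to pairs of quasi-isomorphisms, the counit `α` is an
isomorphism on pairs of `kf`-complexes; conversely, this property characterizes left derived
functors. Similar statements for one and three variables.
-/

set_option autoImplicit false
universe w v u v₄ u₄
open CategoryTheory CategoryTheory.Limits

namespace Groth.Agent.H45.MultiDer

open Groth.Agent.H5

variable {A₁ : Type u} [Category.{v} A₁] [Abelian A₁] [HasDerivedCategory.{w} A₁]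
  {A₂ : Type u} [Category.{v} A₂] [Abelian A₂] [HasDerivedCategory.{w} A₂]
  {A₃ : Type u} [Category.{v} A₃] [Abelian A₃] [HasDerivedCategory.{w} A₃]
  {kf₁ : ObjectProperty (CochainComplex A₁ ℤ)} {kf₂ : ObjectProperty (CochainComplex A₂ ℤ)}
  {kf₃ : ObjectProperty (CochainComplex A₃ ℤ)}
  (H₁ : ResDerivLeft.Hyp kf₁) (H₂ : ResDerivLeft.Hyp kf₂) (H₃ : ResDerivLeft.Hyp kf₃)
  {H : Type u₄} [Category.{v₄} H]

local notation "qi" A => HomologicalComplex.quasiIso A (ComplexShape.up ℤ)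
local notation "he" A => HomologicalComplex.homotopyEquivalences A (ComplexShape.up ℤ)
local notation "quot" A => HomotopyCategory.quotient A (ComplexShape.up ℤ)

section One

variable (F : CochainComplex A₁ ℤ ⥤ H) (hFq : (he A₁).IsInvertedBy F)
  (hF : ∀ ⦃P P' : CochainComplex A₁ ℤ⦄ (φ : P ⟶ P'), kf₁ P → kf₁ P' → QuasiIso φ →
    IsIso (F.map φ))
  (LF : DerivedCategory A₁ ⥤ H) (α : DerivedCategory.Q ⋙ LF ⟶ F)

include H₁ hFq hF

theorem isIso_counit₁ [hα : LF.IsLeftDerivedFunctor α (qi A₁)]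
    (P : CochainComplex A₁ ℤ) (hP : kf₁ P) : IsIso (α.app P) := by
  have := ResDerivLeft.isTriangulated H₁
  have := CxSetting.isLocalization_Qh A₁
  have S := CxSetting.setting H₁
  have : ((quot A₁) ⋙ DerivedCategory.Qh (C := A₁)).IsLocalization (qi A₁) :=
    show (DerivedCategory.Q (C := A₁)).IsLocalization _ from inferInstance
  have h1 : LF.IsLeftDerivedFunctor (L := (quot A₁) ⋙ DerivedCategory.Qh) α (qi A₁) := hα
  exact S.isIso_counit (he A₁) DerivedCategory.Qh F hFq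
    (fun P P' φ hP hP' hφ => hF φ hP hP' hφ) LF α P hP

theorem isLeftDerivedFunctor_of_isIso₁
    (hα : ∀ P : CochainComplex A₁ ℤ, kf₁ P → IsIso (α.app P)) :
    LF.IsLeftDerivedFunctor α (qi A₁) := by
  have := ResDerivLeft.isTriangulated H₁
  have := CxSetting.isLocalization_Qh A₁
  have S := CxSetting.setting H₁
  have : ((quot A₁) ⋙ DerivedCategory.Qh (C := A₁)).IsLocalization (qi A₁) :=
    show (DerivedCategory.Q (C := A₁)).IsLocalization _ from inferInstance
  exact S.isLeftDerivedFunctor_of_isIso (he A₁) DerivedCategory.Qh F hFq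
    (fun P P' φ hP hP' hφ => hF φ hP hP' hφ) LF α hα

theorem hasLeftDerivedFunctor₁ : F.HasLeftDerivedFunctor (qi A₁) := by
  have := ResDerivLeft.isTriangulated H₁
  have := CxSetting.isLocalization_Qh A₁
  have S := CxSetting.setting H₁
  have : ((quot A₁) ⋙ DerivedCategory.Qh (C := A₁)).IsLocalization (qi A₁) :=
    show (DerivedCategory.Q (C := A₁)).IsLocalization _ from inferInstance
  exact S.hasLeftDerivedFunctor (he A₁) DerivedCategory.Qh F hFq
    (fun P P' φ hP hP' hφ => hF φ hP hP' hφ)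

end One

section Two

variable (F : CochainComplex A₁ ℤ × CochainComplex A₂ ℤ ⥤ H)
  (hFq : ((he A₁).prod (he A₂)).IsInvertedBy F)
  (hF : ∀ ⦃P P' : CochainComplex A₁ ℤ × CochainComplex A₂ ℤ⦄ (φ : P ⟶ P'),
    kf₁ P.1 → kf₂ P.2 → kf₁ P'.1 → kf₂ P'.2 → QuasiIso φ.1 → QuasiIso φ.2 → IsIso (F.map φ))
  (LF : DerivedCategory A₁ × DerivedCategory A₂ ⥤ H)
  (α : ((DerivedCategory.Q (C := A₁)).prod (DerivedCategory.Q (C := A₂))) ⋙ LF ⟶ F)

include H₁ H₂ hFq hF

theorem isIso_counit₂ [hα : LF.IsLeftDerivedFunctor α ((qi A₁).prod (qi A₂))]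
    (P₁ : CochainComplex A₁ ℤ) (P₂ : CochainComplex A₂ ℤ) (h₁ : kf₁ P₁) (h₂ : kf₂ P₂) :
    IsIso (α.app (P₁, P₂)) := by
  have := ResDerivLeft.isTriangulated H₁
  have := ResDerivLeft.isTriangulated H₂
  have := CxSetting.isLocalization_Qh A₁
  have := CxSetting.isLocalization_Qh A₂
  have S := (CxSetting.setting H₁).prod (CxSetting.setting H₂)
  have : (((quot A₁).prod (quot A₂)) ⋙
      ((DerivedCategory.Qh (C := A₁)).prod (DerivedCategory.Qh (C := A₂)))).IsLocalization
      ((qi A₁).prod (qi A₂)) :=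
    show ((DerivedCategory.Q (C := A₁)).prod (DerivedCategory.Q (C := A₂))).IsLocalization _ from
      inferInstance
  have h1 : LF.IsLeftDerivedFunctor (L := ((quot A₁).prod (quot A₂)) ⋙
      ((DerivedCategory.Qh (C := A₁)).prod (DerivedCategory.Qh (C := A₂)))) α
      ((qi A₁).prod (qi A₂)) := hα
  exact S.isIso_counit ((he A₁).prod (he A₂))
    ((DerivedCategory.Qh (C := A₁)).prod (DerivedCategory.Qh (C := A₂))) F hFq
    (fun P P' φ hP hP' hφ => hF φ hP.1 hP.2 hP'.1 hP'.2 hφ.1 hφ.2) LF α (P₁, P₂) ⟨h₁, h₂⟩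

theorem isLeftDerivedFunctor_of_isIso₂
    (hα : ∀ (P₁ : CochainComplex A₁ ℤ) (P₂ : CochainComplex A₂ ℤ), kf₁ P₁ → kf₂ P₂ →
      IsIso (α.app (P₁, P₂))) :
    LF.IsLeftDerivedFunctor α ((qi A₁).prod (qi A₂)) := by
  have := ResDerivLeft.isTriangulated H₁
  have := ResDerivLeft.isTriangulated H₂
  have := CxSetting.isLocalization_Qh A₁
  have := CxSetting.isLocalization_Qh A₂
  have S := (CxSetting.setting H₁).prod (CxSetting.setting H₂)
  have : (((quot A₁).prod (quot A₂)) ⋙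
      ((DerivedCategory.Qh (C := A₁)).prod (DerivedCategory.Qh (C := A₂)))).IsLocalization
      ((qi A₁).prod (qi A₂)) :=
    show ((DerivedCategory.Q (C := A₁)).prod (DerivedCategory.Q (C := A₂))).IsLocalization _ from
      inferInstance
  exact S.isLeftDerivedFunctor_of_isIso ((he A₁).prod (he A₂))
    ((DerivedCategory.Qh (C := A₁)).prod (DerivedCategory.Qh (C := A₂))) F hFq
    (fun P P' φ hP hP' hφ => hF φ hP.1 hP.2 hP'.1 hP'.2 hφ.1 hφ.2) LF α
    (fun P hP => hα P.1 P.2 hP.1 hP.2)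

end Two

section Three

variable (F : CochainComplex A₁ ℤ × (CochainComplex A₂ ℤ × CochainComplex A₃ ℤ) ⥤ H)
  (hFq : ((he A₁).prod ((he A₂).prod (he A₃))).IsInvertedBy F)
  (hF : ∀ ⦃P P' : CochainComplex A₁ ℤ × (CochainComplex A₂ ℤ × CochainComplex A₃ ℤ)⦄
    (φ : P ⟶ P'), kf₁ P.1 → kf₂ P.2.1 → kf₃ P.2.2 → kf₁ P'.1 → kf₂ P'.2.1 → kf₃ P'.2.2 →
    QuasiIso φ.1 → QuasiIso φ.2.1 → QuasiIso φ.2.2 → IsIso (F.map φ))
  (LF : DerivedCategory A₁ × (DerivedCategory A₂ × DerivedCategory A₃) ⥤ H)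
  (α : ((DerivedCategory.Q (C := A₁)).prod
    ((DerivedCategory.Q (C := A₂)).prod (DerivedCategory.Q (C := A₃)))) ⋙ LF ⟶ F)

include H₁ H₂ H₃ hFq hF

theorem isIso_counit₃
    [hα : LF.IsLeftDerivedFunctor α ((qi A₁).prod ((qi A₂).prod (qi A₃)))]
    (P₁ : CochainComplex A₁ ℤ) (P₂ : CochainComplex A₂ ℤ) (P₃ : CochainComplex A₃ ℤ)
    (h₁ : kf₁ P₁) (h₂ : kf₂ P₂) (h₃ : kf₃ P₃) :
    IsIso (α.app (P₁, (P₂, P₃))) := by
  have := ResDerivLeft.isTriangulated H₁
  have := ResDerivLeft.isTriangulated H₂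
  have := ResDerivLeft.isTriangulated H₃
  have := CxSetting.isLocalization_Qh A₁
  have := CxSetting.isLocalization_Qh A₂
  have := CxSetting.isLocalization_Qh A₃
  have S := (CxSetting.setting H₁).prod ((CxSetting.setting H₂).prod (CxSetting.setting H₃))
  have : (((quot A₁).prod ((quot A₂).prod (quot A₃))) ⋙
      ((DerivedCategory.Qh (C := A₁)).prod
        ((DerivedCategory.Qh (C := A₂)).prod (DerivedCategory.Qh (C := A₃))))).IsLocalization
      ((qi A₁).prod ((qi A₂).prod (qi A₃))) :=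
    show ((DerivedCategory.Q (C := A₁)).prod
      ((DerivedCategory.Q (C := A₂)).prod (DerivedCategory.Q (C := A₃)))).IsLocalization _ from
      inferInstance
  have h1 : LF.IsLeftDerivedFunctor (L := ((quot A₁).prod ((quot A₂).prod (quot A₃))) ⋙
      ((DerivedCategory.Qh (C := A₁)).prod
        ((DerivedCategory.Qh (C := A₂)).prod (DerivedCategory.Qh (C := A₃))))) α
      ((qi A₁).prod ((qi A₂).prod (qi A₃))) := hα
  exact S.isIso_counit ((he A₁).prod ((he A₂).prod (he A₃)))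
    ((DerivedCategory.Qh (C := A₁)).prod
      ((DerivedCategory.Qh (C := A₂)).prod (DerivedCategory.Qh (C := A₃)))) F hFq
    (fun P P' φ hP hP' hφ => hF φ hP.1 hP.2.1 hP.2.2 hP'.1 hP'.2.1 hP'.2.2 hφ.1 hφ.2.1 hφ.2.2)
    LF α (P₁, (P₂, P₃)) ⟨h₁, h₂, h₃⟩

end Three

end Groth.Agent.H45.MultiDer
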