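import Groth.Agent.H45.MultiDer.DTenCounit

/-!
# The triple derived tensor product and the associativity legs
-/

set_option autoImplicit false
universe u
open CategoryTheory CategoryTheory.Limits MonoidalCategory
attribute [local instance] HasDerivedCategory.standard

namespace Groth.Agent.H45.MultiDer.DTenC

open Groth.Agent.H5 Groth.Agent.H35 HomologicalComplex

variable {A : Type u} [CommRing A]

lemma tensorT₃_map {P P' : DRing.Cx A × (DRing.Cx A × DRing.Cx A)} (φ : P ⟶ P') :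
    (DTen.tensorT₃ A).map φ =
      φ.1 ▷ (P.2.1 ⊗ P.2.2) ≫ P'.1 ◁ (φ.2.1 ▷ P.2.2 ≫ P'.2.1 ◁ φ.2.2) := rfl

variable (A) in
lemma tensor₃_inverts_he :
    ((HomologicalComplex.homotopyEquivalences (ModuleCat.{u} A) (ComplexShape.up ℤ)).prod
      ((HomologicalComplex.homotopyEquivalences (ModuleCat.{u} A) (ComplexShape.up ℤ)).prod
      (HomologicalComplex.homotopyEquivalences (ModuleCat.{u} A) (ComplexShape.up ℤ)))).IsInvertedBy
      (DTen.tensor₃ A) :=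
  isInvertedBy₃ _ (fun _ _ _ _ h₁ h₂ h₃ =>
    DerivedCategory.Q_map_eq_of_homotopy _ (tensorHomotopy h₁ (tensorHomotopy h₂ h₃)))

/-- The counit of the triple derived tensor product is an isomorphism on K-flat triples. -/
theorem isIso_ε₃ [DTen.HasLTen₃ A] (K L M : DRing.Cx A) (hK : DRing.IsKFlat A K)
    (hL : DRing.IsKFlat A L) (hM : DRing.IsKFlat A M) :
    IsIso ((DTen.ε₃ A).app (K, (L, M))) :=
  isIso_counit₃ (hyp A) (hyp A) (hyp A) (DTen.tensor₃ A) (tensor₃_inverts_he A)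
    (fun P P' φ h₁ h₂ h₃ h₁' h₂' h₃' hφ₁ hφ₂ hφ₃ => by
      have h4 : QuasiIso (φ.2.1 ▷ P.2.2 ≫ P'.2.1 ◁ φ.2.2) :=
        quasiIso_tensor_of_kflat_right _ _ h₃ h₂'
      have : QuasiIso (φ.1 ▷ (P.2.1 ⊗ P.2.2) ≫ P'.1 ◁ (φ.2.1 ▷ P.2.2 ≫ P'.2.1 ◁ φ.2.2)) :=
        quasiIso_tensor_of_kflat_left _ _ h₁ h₁'
      exact (DerivedCategory.isIso_Q_map_iff_quasiIso _ _).2 this)
    (DTen.LTen₃ A) (DTen.ε₃ A) K L M hK hL hM

section

variable [DTen.HasLTen A] [DTen.HasLTen₃ A]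

omit [DTen.HasLTen₃ A] in
lemma isIso_βR_app (K L M : DRing.Cx A) (hK : DRing.IsKFlat A K) (hL : DRing.IsKFlat A L) :
    IsIso ((DTen.βR A).app (K, (L, M))) := by
  have h1 : IsIso ((DTen.ε A).app (L, M)) := isIso_ε L M (Or.inl hL)
  have h2 : IsIso ((DTen.ε A).app (K, L ⊗ M)) := isIso_ε K (L ⊗ M) (Or.inl hK)
  have h3 : IsIso (Prod.mkHom (𝟙 (DerivedCategory.Q.obj K)) ((DTen.ε A).app (L, M))) :=
    (isIso_prod_iff _ _).2 ⟨inferInstanceAs (IsIso (𝟙 _)), h1⟩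
  dsimp [DTen.βR]
  infer_instance

omit [DTen.HasLTen₃ A] in
lemma isIso_βL_app (K L M : DRing.Cx A) (hK : DRing.IsKFlat A K) (hM : DRing.IsKFlat A M) :
    IsIso ((DTen.βL A).app (K, (L, M))) := by
  have h1 : IsIso ((DTen.ε A).app (K, L)) := isIso_ε K L (Or.inl hK)
  have h2 : IsIso ((DTen.ε A).app (K ⊗ L, M)) := isIso_ε (K ⊗ L) M (Or.inr hM)
  have h3 : IsIso (Prod.mkHom ((DTen.ε A).app (K, L)) (𝟙 (DerivedCategory.Q.obj M))) :=
    (isIso_prod_iff _ _).2 ⟨h1, inferInstanceAs (IsIso (𝟙 _))⟩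
  have h4 : IsIso (DerivedCategory.Q.map (α_ K L M).hom) := inferInstance
  have h5 : IsIso ((DTen.LTen₂ A).map
      (Prod.mkHom ((DTen.ε A).app (K, L)) (𝟙 (DerivedCategory.Q.obj M)))) := inferInstance
  have h6 : IsIso ((DTen.ε A).app (K ⊗ L, M) ≫ DerivedCategory.Q.map (α_ K L M).hom) :=
    inferInstance
  exact @IsIso.comp_isIso _ _ _ _ _ _ _ h5 h6

theorem isIso_assocR_app_Q (K L M : DRing.Cx A) (hK : DRing.IsKFlat A K)
    (hL : DRing.IsKFlat A L) (hM : DRing.IsKFlat A M) :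
    IsIso ((DTen.assocR A).app ((DTen.QQQ A).obj (K, (L, M)))) := by
  have h1 := isIso_ε₃ K L M hK hL hM
  have h2 := isIso_βR_app K L M hK hL
  have h3 := DTen.assocR_fac A (K, (L, M))
  rw [← h3] at h2
  exact IsIso.of_isIso_comp_right _ ((DTen.ε₃ A).app (K, (L, M)))

theorem isIso_assocL_app_Q (K L M : DRing.Cx A) (hK : DRing.IsKFlat A K)
    (hL : DRing.IsKFlat A L) (hM : DRing.IsKFlat A M) :
    IsIso ((DTen.assocL A).app ((DTen.QQQ A).obj (K, (L, M)))) := by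
  have h1 := isIso_ε₃ K L M hK hL hM
  have h2 := isIso_βL_app K L M hK hM
  have h3 := DTen.assocL_fac A (K, (L, M))
  rw [← h3] at h2
  exact IsIso.of_isIso_comp_right _ ((DTen.ε₃ A).app (K, (L, M)))

/-- Both associativity legs are isomorphisms (S13577). -/
theorem isIso_assoc_app (a b c : Dual.D A) :
    IsIso ((DTen.assocL A).app (a, (b, c))) ∧ IsIso ((DTen.assocR A).app (a, (b, c))) := by
  obtain ⟨K, hK, ⟨eK⟩⟩ := exists_kflat_rep a
  obtain ⟨L, hL, ⟨eL⟩⟩ := exists_kflat_rep b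
  obtain ⟨M, hM, ⟨eM⟩⟩ := exists_kflat_rep c
  let e : (DTen.QQQ A).obj (K, (L, M)) ≅ (a, (b, c)) := Iso.prod eK (Iso.prod eL eM)
  constructor
  · rw [← NatTrans.isIso_app_iff_of_iso (DTen.assocL A) e]
    exact isIso_assocL_app_Q K L M hK hL hM
  · rw [← NatTrans.isIso_app_iff_of_iso (DTen.assocR A) e]
    exact isIso_assocR_app_Q K L M hK hL hM

end

end Groth.Agent.H45.MultiDer.DTenC
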