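import Groth.Agent.H45.MultiDer.KFAcyclic
import Mathlib.CategoryTheory.Functor.Derived.Adjunction
import Mathlib.CategoryTheory.Adjunction.Unique

/-!
# Derived base change is computed termwise on K-flat complexes

`DTen.LBase φ` is defined as the left adjoint of the restriction functor `D(A) ⥤ D(R)`. We show
that the total left derived functor of `K ↦ Q(K ⊗_R A)` is also a left adjoint of the restriction
functor (Mathlib's derived adjunction), so that both agree, compatibly with the canonical maps to
`Q(K ⊗_R A)`; the comparison `DTen.baseCmp` is therefore an isomorphism on K-flat complexes.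
-/

set_option autoImplicit false
universe u
open CategoryTheory CategoryTheory.Limits MonoidalCategory
attribute [local instance] HasDerivedCategory.standard

namespace Groth.Agent.H45.MultiDer.DTenC

open Groth.Agent.H5 Groth.Agent.H35 HomologicalComplex

variable {R A : Type u} [CommRing R] [CommRing A] (φ : R →+* A)

/-- The termwise counit `(K|_R) ⊗_R A ⟶ K`. -/
noncomputable def counitCx : DTen.resCx φ ⋙ DTen.extCx φ ⟶ 𝟭 (DRing.Cx A) where
  app K :=
    { f := fun i => (ModuleCat.extendRestrictScalarsAdj.{u, u, u} φ).counit.app (K.X i)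
      comm' := fun i j _ => by
        have h := (ModuleCat.extendRestrictScalarsAdj.{u, u, u} φ).counit.naturality (K.d i j)
        dsimp at h ⊢
        exact h.symm }
  naturality K K' f := HomologicalComplex.hom_ext _ _ (fun i => by
    have h := (ModuleCat.extendRestrictScalarsAdj.{u, u, u} φ).counit.naturality (f.f i)
    dsimp at h ⊢
    exact h)

/-- The termwise adjunction between extension and restriction of scalars on complexes. -/
noncomputable def adjCx : DTen.extCx φ ⊣ DTen.resCx φ :=
  Adjunction.mkOfUnitCounit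
    { unit := DTen.unitCx φ
      counit := counitCx φ
      left_triangle := by
        ext K : 2
        apply HomologicalComplex.hom_ext
        intro i
        exact (ModuleCat.extendRestrictScalarsAdj.{u, u, u} φ).left_triangle_components (K.X i)
      right_triangle := by
        ext K : 2
        apply HomologicalComplex.hom_ext
        intro i
        exact (ModuleCat.extendRestrictScalarsAdj.{u, u, u} φ).right_triangle_components (K.X i) }

lemma adjCx_unit : (adjCx φ).unit = DTen.unitCx φ := rfl

/-- `K ↦ Q(K ⊗_R A)`. -/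
noncomputable abbrev extQ : DRing.Cx R ⥤ Dual.D A := DTen.extCx φ ⋙ DerivedCategory.Q

lemma extQ_inverts_he :
    (HomologicalComplex.homotopyEquivalences (ModuleCat.{u} R) (ComplexShape.up ℤ)).IsInvertedBy
      (extQ φ) :=
  isInvertedBy₁ _ (fun _ _ _ _ h =>
    DerivedCategory.Q_map_eq_of_homotopy _ (extCxHomotopy φ h))

lemma extQ_inverts ⦃P P' : DRing.Cx R⦄ (f : P ⟶ P') (hP : kfl R P) (hP' : kfl R P')
    (hf : QuasiIso f) : IsIso ((extQ φ).map f) := by
  have := quasiIso_extCx_map φ f hP hP'
  exact (DerivedCategory.isIso_Q_map_iff_quasiIso _ _).2 this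

instance hasLeftDerivedFunctor_extQ :
    (extQ φ).HasLeftDerivedFunctor (DTen.qis R) :=
  hasLeftDerivedFunctor₁ (hyp R) (extQ φ) (extQ_inverts_he φ) (extQ_inverts φ)

/-- The total left derived functor of `K ↦ Q(K ⊗_R A)`. -/
noncomputable abbrev Lext : Dual.D R ⥤ Dual.D A :=
  (extQ φ).totalLeftDerived DerivedCategory.Q (DTen.qis R)

/-- Its counit. -/
noncomputable abbrev αext : DerivedCategory.Q ⋙ Lext φ ⟶ extQ φ :=
  (extQ φ).totalLeftDerivedCounit DerivedCategory.Q (DTen.qis R)

lemma isIso_αext_app (K : DRing.Cx R) (hK : DRing.IsKFlat R K) : IsIso ((αext φ).app K) :=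
  isIso_counit₁ (hyp R) (extQ φ) (extQ_inverts_he φ) (extQ_inverts φ) (Lext φ) (αext φ) K hK

/-- The comparison of restriction on derived categories with termwise restriction. -/
noncomputable abbrev βres : DTen.resCx φ ⋙ DerivedCategory.Q ⟶
    DerivedCategory.Q ⋙ DRing.restrictD φ := (DTen.resFactors φ).inv

instance : (DRing.restrictD φ).IsRightDerivedFunctor (βres φ) (DTen.qis A) :=
  Functor.isRightDerivedFunctor_of_inverts (DTen.qis A) (DRing.restrictD φ) (DTen.resFactors φ)

instance : (DRing.restrictD φ ⋙ Lext φ).IsRightDerivedFunctor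
    (Functor.whiskerRight (βres φ) (Lext φ) ≫ (Functor.associator _ _ _).hom) (DTen.qis A) :=
  Functor.isRightDerivedFunctor_of_inverts (DTen.qis A) (DRing.restrictD φ ⋙ Lext φ)
    ((Functor.associator _ _ _).symm ≪≫ Functor.isoWhiskerRight (DTen.resFactors φ) (Lext φ))

instance : (Lext φ ⋙ DRing.restrictD φ).IsLeftDerivedFunctor
    ((Functor.associator _ _ _).inv ≫ Functor.whiskerRight (αext φ) (DRing.restrictD φ))
    (DTen.qis R) := by
  refine isLeftDerivedFunctor_of_isIso₁ (hyp R) (extQ φ ⋙ DRing.restrictD φ) ?_ ?_ _ _ ?_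
  · exact isInvertedBy₁ _ (fun _ _ _ _ h => by
      dsimp
      rw [DerivedCategory.Q_map_eq_of_homotopy _ (extCxHomotopy φ h)])
  · intro P P' f hP hP' hf
    have : IsIso (DerivedCategory.Q.map ((DTen.extCx φ).map f)) := extQ_inverts φ f hP hP' hf
    dsimp
    infer_instance
  · intro P hP
    have := isIso_αext_app φ P hP
    dsimp
    rw [Category.id_comp]
    infer_instance

/-- The derived adjunction. -/
noncomputable def adjD : Lext φ ⊣ DRing.restrictD φ :=
  (adjCx φ).derived (DTen.qis R) (DTen.qis A) (αext φ) (βres φ)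

lemma adjD_unit_app (K : DRing.Cx R) :
    (adjD φ).unit.app (DerivedCategory.Q.obj K) ≫ (DRing.restrictD φ).map ((αext φ).app K) =
      DerivedCategory.Q.map ((DTen.unitCx φ).app K) ≫
        (DTen.resFactors φ).inv.app ((DTen.extCx φ).obj K) :=
  (adjCx φ).derivedη_fac_app (DTen.qis R) (αext φ) (βres φ) K

variable [DTen.HasLBase φ]

/-- `LBase φ` agrees with the left derived functor of termwise base change. -/
noncomputable def lbaseIso : DTen.LBase φ ≅ Lext φ :=
  (DTen.baseAdj φ).leftAdjointUniq (adjD φ)

lemma baseCmp_app (K : DRing.Cx R) :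
    (DTen.baseCmp φ).app K = (lbaseIso φ).hom.app (DerivedCategory.Q.obj K) ≫ (αext φ).app K := by
  apply ((DTen.baseAdj φ).homEquiv _ _).injective
  rw [Adjunction.homEquiv_unit, Adjunction.homEquiv_unit, DTen.baseCmp_fac, Functor.map_comp,
    ← Category.assoc]
  erw [Adjunction.unit_leftAdjointUniq_hom_app (DTen.baseAdj φ) (adjD φ)]
  rw [adjD_unit_app]
  rfl

/-- Derived base change is computed termwise on K-flat complexes (S13894). -/
theorem isIso_baseCmp_app (K : DRing.Cx R) (hK : DRing.IsKFlat R K) :
    IsIso ((DTen.baseCmp φ).app K) := by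
  rw [baseCmp_app]
  have := isIso_αext_app φ K hK
  infer_instance

end Groth.Agent.H45.MultiDer.DTenC
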