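import Groth.Agent.H45.MultiDer.BaseCmp

/-!
# The comparison `(E ⊗^L_R A) ⊗^L_A N ⟶ E ⊗^L_R N` is an isomorphism
-/

set_option autoImplicit false
universe u
open CategoryTheory CategoryTheory.Limits MonoidalCategory
attribute [local instance] HasDerivedCategory.standard

namespace Groth.Agent.H45.MultiDer.DTenC

open Groth.Agent.H5 Groth.Agent.H35 HomologicalComplex

variable {R A : Type u} [CommRing R] [CommRing A] (φ : R →+* A)

section

variable [DTen.HasLTen A] [DTen.HasLBase φ]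

lemma isIso_splitβ_app (K : DRing.Cx R) (N : DRing.Cx A) (hK : DRing.IsKFlat R K) :
    IsIso ((DTen.splitβ φ).app (K, N)) := by
  have h1 : IsIso ((DTen.baseCmp φ).app K) := isIso_baseCmp_app φ K hK
  have h2 : IsIso ((DTen.ε A).app ((DTen.extCx φ).obj K, N)) :=
    isIso_ε _ N (Or.inl (isKFlat_extCx φ hK))
  have h3 : IsIso (Prod.mkHom ((DTen.baseCmp φ).app K) (𝟙 (DerivedCategory.Q.obj N))) :=
    (isIso_prod_iff _ _).2 ⟨h1, inferInstanceAs (IsIso (𝟙 _))⟩
  have h5 : IsIso ((DTen.LTen₂ A).map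
      (Prod.mkHom ((DTen.baseCmp φ).app K) (𝟙 (DerivedCategory.Q.obj N)))) := inferInstance
  exact @IsIso.comp_isIso _ _ _ _ _ _ _ h5 h2

/-- The comparison `split` is an isomorphism (S13893). -/
theorem isIso_split_app [DTen.HasLTenMix φ] (E : Dual.D R) (N : Dual.D A) :
    IsIso ((DTen.split φ).app (E, N)) := by
  obtain ⟨K, hK, ⟨eK⟩⟩ := exists_kflat_rep E
  obtain ⟨L, -, ⟨eL⟩⟩ := exists_kflat_rep N
  let e : (DTen.QMix R A).obj (K, L) ≅ (E, N) := Iso.prod eK eL
  have h1 := isIso_εMix φ K L hK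
  rw [← NatTrans.isIso_app_iff_of_iso (DTen.split φ) e]
  have h2 := isIso_splitβ_app φ K L hK
  rw [← DTen.split_fac φ (K, L)] at h2
  exact IsIso.of_isIso_comp_right _ ((DTen.εMix φ).app (K, L))

end

end Groth.Agent.H45.MultiDer.DTenC
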