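import Groth.Prelude.Def_DTen6

/-!
# Compatibility of the unit of extension/restriction of scalars with tensor products of complexes
-/

set_option autoImplicit false
universe u
set_option backward.isDefEq.respectTransparency false

open CategoryTheory CategoryTheory.Limits MonoidalCategory
attribute [local instance] HasDerivedCategory.standard

namespace Groth.Agent.H45.MultiDer.DTenC

open DTen

variable {R R' : Type u} [CommRing R] [CommRing R'] (φ : R →+* R')

/-- Module level: the unit is monoidal. -/
lemma unit_comp_res_δ (M N : ModuleCat.{u} R) :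
    (ModuleCat.extendRestrictScalarsAdj.{u, u, u} φ).unit.app (M ⊗ N) ≫
        (resM φ).map (Functor.OplaxMonoidal.δ (extM φ) M N) =
      ((ModuleCat.extendRestrictScalarsAdj.{u, u, u} φ).unit.app M ⊗ₘ
        (ModuleCat.extendRestrictScalarsAdj.{u, u, u} φ).unit.app N) ≫
        resTen₀app φ ((extM φ).obj M) ((extM φ).obj N) :=
  ModuleCat.hom_ext (TensorProduct.ext' (fun _ _ => rfl))

lemma unitCx_app_f (K : DRing.Cx R) (i : ℤ) :
    ((unitCx φ).app K).f i =
      (ModuleCat.extendRestrictScalarsAdj.{u, u, u} φ).unit.app (K.X i) := rfl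

/-- Complex level: the unit is monoidal. -/
lemma unitCx_comp_res_extTenCxIso (P P' : DRing.Cx R) :
    (unitCx φ).app ((tensorT R).obj (P, P')) ≫ (resCx φ).map (extTenCxIso φ P P').hom =
      ((unitCx φ).app P ⊗ₘ (unitCx φ).app P') ≫
        resTenCx φ ((extCx φ).obj P) ((extCx φ).obj P') := by
  change _ = HomologicalComplex.mapBifunctorMap ((unitCx φ).app P) ((unitCx φ).app P') _ _ ≫ _
  refine HomologicalComplex.hom_ext _ _ (fun n => HomologicalComplex.mapBifunctor.hom_ext (fun p q h => ?_))
  have hL : HomologicalComplex.ιTensorObj P P' p q n h ≫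
      ((unitCx φ).app ((tensorT R).obj (P, P'))).f n ≫
        (resM φ).map ((extTenCxIso φ P P').hom.f n) =
      (ModuleCat.extendRestrictScalarsAdj.{u, u, u} φ).unit.app (P.X p ⊗ P'.X q) ≫
        (resM φ).map (Functor.OplaxMonoidal.δ (extM φ) (P.X p) (P'.X q) ≫
          HomologicalComplex.ιTensorObj ((extCx φ).obj P) ((extCx φ).obj P') p q n h) := by
    have e1 := (ModuleCat.extendRestrictScalarsAdj.{u, u, u} φ).unit.naturality
      (HomologicalComplex.ιTensorObj P P' p q n h)
    have e2 := map_ι_extTenCxIso_hom φ P P' p q n h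
    rw [← e2, Functor.map_comp, ← Category.assoc, ← Category.assoc]
    congr 1
  have hR : HomologicalComplex.ιTensorObj P P' p q n h ≫
      (HomologicalComplex.mapBifunctorMap ((unitCx φ).app P) ((unitCx φ).app P')
        (curriedTensor (ModuleCat.{u} R)) (ComplexShape.up ℤ)).f n ≫
        (resTenCx φ ((extCx φ).obj P) ((extCx φ).obj P')).f n =
      (((unitCx φ).app P).f p ⊗ₘ ((unitCx φ).app P').f q) ≫
        resTen₀app φ (((extCx φ).obj P).X p) (((extCx φ).obj P').X q) ≫
        (resM φ).map (HomologicalComplex.ιTensorObj ((extCx φ).obj P) ((extCx φ).obj P') p q n h) := by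
    have e1 := HomologicalComplex.ι_mapBifunctorMap ((unitCx φ).app P) ((unitCx φ).app P')
      (curriedTensor (ModuleCat.{u} R)) (ComplexShape.up ℤ) p q n h
    have e2 := ι_resTenCx φ ((extCx φ).obj P) ((extCx φ).obj P') p q n h
    rw [← Category.assoc]
    erw [e1]
    rw [Category.assoc, Category.assoc]
    erw [e2]
    rw [tensorHom_def, Category.assoc]
    rfl
  exact hL.trans ((by
    rw [Functor.map_comp, ← Category.assoc, unit_comp_res_δ, Category.assoc]
    rfl : _ = _).trans hR.symm)

end Groth.Agent.H45.MultiDer.DTenC
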