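import Groth.Agent.H45.MultiDer.BaseCmp
import Groth.Agent.H45.MultiDer.ExtTenUnit

/-!
# Derived base change is monoidal, and base change for `RHom`
-/

set_option autoImplicit false
universe u
open CategoryTheory CategoryTheory.Limits MonoidalCategory
attribute [local instance] HasDerivedCategory.standard

namespace Groth.Agent.H45.MultiDer.DTenC

open Groth.Agent.H5 Groth.Agent.H35 HomologicalComplex DTen

variable {R R' : Type u} [CommRing R] [CommRing R'] (φ : R →+* R')
  [HasLTen R] [HasLTen R'] [HasLBase φ] [HasResTen φ] [ResLegIso φ]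

/-- `X ⊗^L K ⟶ res (LBase X ⊗^L LBase K)`. -/
noncomputable def lbaseν :
    LTen₂ R ⟶ (((LBase φ).prod (LBase φ)) ⋙ LTen₂ R') ⋙ DRing.restrictD φ where
  app X := (LTen₂ R).map (Prod.mkHom ((baseAdj φ).unit.app X.1) ((baseAdj φ).unit.app X.2)) ≫
    (resPF φ).app ((LBase φ).obj X.1, (LBase φ).obj X.2)
  naturality := by
    rintro ⟨X, K⟩ ⟨X', K'⟩ ⟨f, g⟩
    have e1 := (baseAdj φ).unit.naturality f
    have e2 := (baseAdj φ).unit.naturality g
    have e3 := (resPF φ).naturality
      (Prod.mkHom ((LBase φ).map f) ((LBase φ).map g) :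
        ((LBase φ).obj X, (LBase φ).obj K) ⟶ ((LBase φ).obj X', (LBase φ).obj K'))
    dsimp at e1 e2 e3 ⊢
    rw [Category.assoc, ← e3, ← Category.assoc, ← Category.assoc, ← Functor.map_comp,
      ← Functor.map_comp]
    congr 2
    simp only [prod_comp, Prod.mkHom]
    exact Prod.ext e1 e2

/-- The oplax monoidal structure map `LBase (X ⊗^L K) ⟶ LBase X ⊗^L LBase K`. -/
noncomputable def lbaseμ : LTen₂ R ⋙ LBase φ ⟶ ((LBase φ).prod (LBase φ)) ⋙ LTen₂ R' :=
  (((baseAdj φ).whiskerRight (Dual.D R × Dual.D R)).homEquiv _ _).symm (lbaseν φ)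

lemma lbaseμ_fac (X : Dual.D R × Dual.D R) :
    (baseAdj φ).unit.app ((LTen₂ R).obj X) ≫ (DRing.restrictD φ).map ((lbaseμ φ).app X) =
      (lbaseν φ).app X := by
  have h := (((baseAdj φ).whiskerRight (Dual.D R × Dual.D R)).homEquiv _ _).apply_symm_apply
    (lbaseν φ)
  rw [Adjunction.homEquiv_unit] at h
  have h' := NatTrans.congr_app h X
  dsimp [lbaseμ, Adjunction.whiskerRight] at h' ⊢
  simpa using h'

/-- The key computation on complexes. -/
lemma lbaseμ_comp (P P' : DRing.Cx R) :
    (lbaseμ φ).app (DerivedCategory.Q.obj P, DerivedCategory.Q.obj P') ≫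
        (LTen₂ R').map (Prod.mkHom ((baseCmp φ).app P) ((baseCmp φ).app P')) ≫
        (ε R').app ((extCx φ).obj P, (extCx φ).obj P') =
      (LBase φ).map ((ε R).app (P, P')) ≫ (baseCmp φ).app ((tensorT R).obj (P, P')) ≫
        DerivedCategory.Q.map (extTenCxIso φ P P').hom := by
  apply ((baseAdj φ).homEquiv _ _).injective
  rw [Adjunction.homEquiv_unit, Adjunction.homEquiv_unit]
  -- left side
  have hL : (baseAdj φ).unit.app ((LTen₂ R).obj (DerivedCategory.Q.obj P, DerivedCategory.Q.obj P')) ≫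
      (DRing.restrictD φ).map ((lbaseμ φ).app (DerivedCategory.Q.obj P, DerivedCategory.Q.obj P') ≫
        (LTen₂ R').map (Prod.mkHom ((baseCmp φ).app P) ((baseCmp φ).app P')) ≫
        (ε R').app ((extCx φ).obj P, (extCx φ).obj P')) =
      (ε R).app (P, P') ≫ DerivedCategory.Q.map
        (((unitCx φ).app P ⊗ₘ (unitCx φ).app P') ≫
          resTenCx φ ((extCx φ).obj P) ((extCx φ).obj P')) ≫
        (resFactors φ).inv.app ((tensorT R').obj ((extCx φ).obj P, (extCx φ).obj P')) := by
    have e0 := lbaseμ_fac φ (DerivedCategory.Q.obj P, DerivedCategory.Q.obj P')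
    have e1 := (resPF φ).naturality
      (Prod.mkHom ((baseCmp φ).app P) ((baseCmp φ).app P') :
        ((LBase φ).obj (DerivedCategory.Q.obj P), (LBase φ).obj (DerivedCategory.Q.obj P')) ⟶
          (DerivedCategory.Q.obj ((extCx φ).obj P), DerivedCategory.Q.obj ((extCx φ).obj P')))
    have e2 := resPF_fac φ ((extCx φ).obj P, (extCx φ).obj P')
    have e3 := baseCmp_fac φ P
    have e4 := baseCmp_fac φ P'
    have e5 := (ε R).naturality
      (Prod.mkHom ((unitCx φ).app P) ((unitCx φ).app P') :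
        (P, P') ⟶ ((resCx φ).obj ((extCx φ).obj P), (resCx φ).obj ((extCx φ).obj P')))
    -- step 1
    have s1 : (resPF φ).app (DerivedCategory.Q.obj ((extCx φ).obj P),
          DerivedCategory.Q.obj ((extCx φ).obj P')) ≫
        (DRing.restrictD φ).map ((ε R').app ((extCx φ).obj P, (extCx φ).obj P')) =
        (resβA φ).app ((extCx φ).obj P, (extCx φ).obj P') ≫
          (resFactors φ).inv.app ((tensorT R').obj ((extCx φ).obj P, (extCx φ).obj P')) := by
      rw [← e2]
      dsimp [resβB]
      rw [Category.assoc, Category.assoc, Iso.hom_inv_id_app]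
      erw [Category.comp_id]
    -- step 2
    have s2 : (LTen₂ R).map (Prod.mkHom ((baseAdj φ).unit.app (DerivedCategory.Q.obj P))
          ((baseAdj φ).unit.app (DerivedCategory.Q.obj P'))) ≫
        (LTen₂ R).map (Prod.mkHom ((DRing.restrictD φ).map ((baseCmp φ).app P))
          ((DRing.restrictD φ).map ((baseCmp φ).app P'))) ≫
        (LTen₂ R).map (Prod.mkHom ((resFactors φ).hom.app ((extCx φ).obj P))
          ((resFactors φ).hom.app ((extCx φ).obj P'))) =
        (LTen₂ R).map (Prod.mkHom (DerivedCategory.Q.map ((unitCx φ).app P))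
          (DerivedCategory.Q.map ((unitCx φ).app P'))) := by
      rw [← Functor.map_comp, ← Functor.map_comp]
      congr 1
      simp only [prod_comp, Prod.mkHom]
      dsimp [baseγ] at e3 e4
      refine Prod.ext ?_ ?_
      · dsimp
        rw [← Category.assoc, e3, Category.assoc, Iso.inv_hom_id_app]
        erw [Category.comp_id]
      · dsimp
        rw [← Category.assoc, e4, Category.assoc, Iso.inv_hom_id_app]
        erw [Category.comp_id]
    have e1' : (resPF φ).app ((LBase φ).obj (DerivedCategory.Q.obj P),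
          (LBase φ).obj (DerivedCategory.Q.obj P')) ≫
        (DRing.restrictD φ).map
          ((LTen₂ R').map (Prod.mkHom ((baseCmp φ).app P) ((baseCmp φ).app P'))) =
        (LTen₂ R).map (Prod.mkHom ((DRing.restrictD φ).map ((baseCmp φ).app P))
          ((DRing.restrictD φ).map ((baseCmp φ).app P'))) ≫
        (resPF φ).app (DerivedCategory.Q.obj ((extCx φ).obj P),
          DerivedCategory.Q.obj ((extCx φ).obj P')) := e1.symm
    have e5' : (LTen₂ R).map (Prod.mkHom (DerivedCategory.Q.map ((unitCx φ).app P))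
          (DerivedCategory.Q.map ((unitCx φ).app P'))) ≫
        (ε R).app ((resCx φ).obj ((extCx φ).obj P), (resCx φ).obj ((extCx φ).obj P')) =
        (ε R).app (P, P') ≫
          DerivedCategory.Q.map ((unitCx φ).app P ⊗ₘ (unitCx φ).app P') := by
      rw [MonoidalCategory.tensorHom_def]
      exact e5
    have e0' : (lbaseν φ).app (DerivedCategory.Q.obj P, DerivedCategory.Q.obj P') =
        (LTen₂ R).map (Prod.mkHom ((baseAdj φ).unit.app (DerivedCategory.Q.obj P))
          ((baseAdj φ).unit.app (DerivedCategory.Q.obj P'))) ≫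
        (resPF φ).app ((LBase φ).obj (DerivedCategory.Q.obj P),
          (LBase φ).obj (DerivedCategory.Q.obj P')) := rfl
    have e6 : (resβA φ).app ((extCx φ).obj P, (extCx φ).obj P') =
        (LTen₂ R).map (Prod.mkHom ((resFactors φ).hom.app ((extCx φ).obj P))
          ((resFactors φ).hom.app ((extCx φ).obj P'))) ≫
        (ε R).app ((resCx φ).obj ((extCx φ).obj P), (resCx φ).obj ((extCx φ).obj P')) ≫
        DerivedCategory.Q.map (resTenCx φ ((extCx φ).obj P) ((extCx φ).obj P')) := rfl
    rw [Functor.map_comp, Functor.map_comp, ← Category.assoc, e0, e0', Category.assoc,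
      ← Category.assoc ((resPF φ).app _), e1', Category.assoc, s1, e6]
    simp only [Category.assoc]
    rw [← Category.assoc ((LTen₂ R).map _), ← Category.assoc (_ ≫ (LTen₂ R).map _),
      Category.assoc ((LTen₂ R).map _), s2]
    rw [← Category.assoc ((LTen₂ R).map _), e5', Category.assoc, Functor.map_comp, Category.assoc]
  have hR : (baseAdj φ).unit.app ((LTen₂ R).obj (DerivedCategory.Q.obj P, DerivedCategory.Q.obj P')) ≫
      (DRing.restrictD φ).map ((LBase φ).map ((ε R).app (P, P')) ≫
        (baseCmp φ).app ((tensorT R).obj (P, P')) ≫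
        DerivedCategory.Q.map (extTenCxIso φ P P').hom) =
      (ε R).app (P, P') ≫ DerivedCategory.Q.map
        ((unitCx φ).app ((tensorT R).obj (P, P')) ≫ (resCx φ).map (extTenCxIso φ P P').hom) ≫
        (resFactors φ).inv.app ((tensorT R').obj ((extCx φ).obj P, (extCx φ).obj P')) := by
    have e1 := (baseAdj φ).unit.naturality ((ε R).app (P, P'))
    have e2 := baseCmp_fac φ ((tensorT R).obj (P, P'))
    have e3 := (resFactors φ).inv.naturality (extTenCxIso φ P P').hom
    dsimp [baseγ] at e1 e2 e3 ⊢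
    rw [Functor.map_comp, Functor.map_comp, ← Category.assoc, ← e1, Category.assoc,
      ← Category.assoc ((baseAdj φ).unit.app _), e2, Functor.map_comp, Category.assoc,
      Category.assoc, e3]
  rw [hL, hR, unitCx_comp_res_extTenCxIso]

lemma isIso_lbaseμ_app_Q (P P' : DRing.Cx R) (hP : DRing.IsKFlat R P) (hP' : DRing.IsKFlat R P') :
    IsIso ((lbaseμ φ).app (DerivedCategory.Q.obj P, DerivedCategory.Q.obj P')) := by
  have h1 : IsIso ((baseCmp φ).app P) := isIso_baseCmp_app φ P hP
  have h2 : IsIso ((baseCmp φ).app P') := isIso_baseCmp_app φ P' hP'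
  have h3 : IsIso ((ε R').app ((extCx φ).obj P, (extCx φ).obj P')) :=
    isIso_ε _ _ (Or.inl (isKFlat_extCx φ hP))
  have h4 : IsIso ((ε R).app (P, P')) := isIso_ε _ _ (Or.inl hP)
  have h5 : IsIso ((baseCmp φ).app ((tensorT R).obj (P, P'))) :=
    isIso_baseCmp_app φ _ (isKFlat_tensor hP hP')
  have h6 : IsIso (Prod.mkHom ((baseCmp φ).app P) ((baseCmp φ).app P')) :=
    (isIso_prod_iff _ _).2 ⟨h1, h2⟩
  have h7 : IsIso ((LTen₂ R').map (Prod.mkHom ((baseCmp φ).app P) ((baseCmp φ).app P'))) :=
    inferInstance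
  have h8 : IsIso ((LTen₂ R').map (Prod.mkHom ((baseCmp φ).app P) ((baseCmp φ).app P')) ≫
      (ε R').app ((extCx φ).obj P, (extCx φ).obj P')) :=
    @IsIso.comp_isIso _ _ _ _ _ _ _ h7 h3
  have h9 : IsIso ((LBase φ).map ((ε R).app (P, P')) ≫
      (baseCmp φ).app ((tensorT R).obj (P, P')) ≫
      DerivedCategory.Q.map (extTenCxIso φ P P').hom) := inferInstance
  rw [← lbaseμ_comp] at h9
  exact IsIso.of_isIso_comp_right _
    ((LTen₂ R').map (Prod.mkHom ((baseCmp φ).app P) ((baseCmp φ).app P')) ≫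
      (ε R').app ((extCx φ).obj P, (extCx φ).obj P'))

/-- Derived base change is (strong) monoidal. -/
theorem isIso_lbaseμ_app (X K : Dual.D R) : IsIso ((lbaseμ φ).app (X, K)) := by
  obtain ⟨P, hP, ⟨eP⟩⟩ := exists_kflat_rep X
  obtain ⟨P', hP', ⟨eP'⟩⟩ := exists_kflat_rep K
  let e : (DerivedCategory.Q.obj P, DerivedCategory.Q.obj P') ≅ (X, K) := Iso.prod eP eP'
  rw [← NatTrans.isIso_app_iff_of_iso (lbaseμ φ) e]
  exact isIso_lbaseμ_app_Q φ P P' hP hP'

section RHomBC

variable [HasRHom R] [HasRHom R']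

/-- The bijection `Hom(X, res RHom'(K', M)) ≃ Hom(X, RHom(K, res M))`. -/
noncomputable def rhomBCEquiv (X K : Dual.D R) (M : Dual.D R') :
    (X ⟶ (DRing.restrictD φ).obj ((RHomR R' ((LBase φ).obj K)).obj M)) ≃
      (X ⟶ (RHomR R K).obj ((DRing.restrictD φ).obj M)) :=
  haveI := isIso_lbaseμ_app φ X K
  ((baseAdj φ).homEquiv X ((RHomR R' ((LBase φ).obj K)).obj M)).symm.trans
    ((rhomHomEquiv ((LBase φ).obj X) ((LBase φ).obj K) M).symm.trans
      (((asIso ((lbaseμ φ).app (X, K))).symm.homFromEquiv (Z := M)).trans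
        (((baseAdj φ).homEquiv ((LTen₂ R).obj (X, K)) M).trans
          (rhomHomEquiv X K ((DRing.restrictD φ).obj M)))))

lemma comp_rhomBC {X : Dual.D R} (K : Dual.D R) (M : Dual.D R')
    (f : X ⟶ (DRing.restrictD φ).obj ((RHomR R' ((LBase φ).obj K)).obj M)) :
    f ≫ rhomBC φ K M = rhomBCEquiv φ X K M f := by
  have e1 := (Adjunction.homEquiv_naturality_left (rhomAdj R K) f (rhomBCCore φ K M)).symm
  dsimp only [rhomBC, rhomHomEquiv]
  refine e1.trans ?_
  dsimp only [rhomBCEquiv, Equiv.trans_apply, rhomHomEquiv]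
  refine congrArg _ ?_
  set f' := ((baseAdj φ).homEquiv X ((RHomR R' ((LBase φ).obj K)).obj M)).symm f with hf'
  have hf : (baseAdj φ).unit.app X ≫ (DRing.restrictD φ).map f' = f := by
    have := (Adjunction.homEquiv_unit (baseAdj φ) X _ f').symm
    exact this.trans (by rw [hf', Equiv.apply_symm_apply])
  have e2 := (resPF φ).naturality
    (Prod.mkHom f' (𝟙 ((LBase φ).obj K)) :
      ((LBase φ).obj X, (LBase φ).obj K) ⟶
        ((RHomR R' ((LBase φ).obj K)).obj M, (LBase φ).obj K))
  have e2' : (resPF φ).app ((LBase φ).obj X, (LBase φ).obj K) ≫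
      (DRing.restrictD φ).map ((LTen₂ R').map (Prod.mkHom f' (𝟙 ((LBase φ).obj K)))) =
      (LTen₂ R).map (Prod.mkHom ((DRing.restrictD φ).map f')
        ((DRing.restrictD φ).map (𝟙 ((LBase φ).obj K)))) ≫
      (resPF φ).app ((RHomR R' ((LBase φ).obj K)).obj M, (LBase φ).obj K) := e2.symm
  have e3 := lbaseμ_fac φ (X, K)
  have e4 : (lbaseν φ).app (X, K) =
      (LTen₂ R).map (Prod.mkHom ((baseAdj φ).unit.app X) ((baseAdj φ).unit.app K)) ≫
        (resPF φ).app ((LBase φ).obj X, (LBase φ).obj K) := rfl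
  have e5 : ((rhomAdj R' ((LBase φ).obj K)).homEquiv ((LBase φ).obj X) M).symm f' =
      (LTen₂ R').map (Prod.mkHom f' (𝟙 ((LBase φ).obj K))) ≫ ev ((LBase φ).obj K) M := by
    rw [Adjunction.homEquiv_counit]
    rfl
  have e6 : (tensorRightD R K).map f = (LTen₂ R).map (Prod.mkHom f (𝟙 K)) := rfl
  rw [Adjunction.homEquiv_unit, e5]
  change _ = _ ≫ (DRing.restrictD φ).map ((lbaseμ φ).app (X, K) ≫ _)
  rw [Functor.map_comp, ← Category.assoc, e3, e4, Functor.map_comp, Category.assoc,
    ← Category.assoc ((resPF φ).app _), e2', Category.assoc, ← Category.assoc ((LTen₂ R).map _),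
    ← Functor.map_comp, e6]
  dsimp only [rhomBCCore]
  rw [← Category.assoc ((LTen₂ R).map _), ← Functor.map_comp]
  congr 2
  simp only [prod_comp, Prod.mkHom]
  refine Prod.ext ?_ ?_
  · dsimp
    rw [hf, Category.comp_id]
  · dsimp
    rw [CategoryTheory.Functor.map_id, Category.comp_id, Category.id_comp]

/-- Base change for `RHom` (S14263). -/
theorem isIso_rhomBC (K : Dual.D R) (M : Dual.D R') : IsIso (rhomBC φ K M) := by
  apply isIso_of_yoneda_map_bijective
  intro X
  have : (fun (x : X ⟶ (DRing.restrictD φ).obj ((RHomR R' ((LBase φ).obj K)).obj M)) =>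
      x ≫ rhomBC φ K M) = rhomBCEquiv φ X K M := by
    funext x
    exact comp_rhomBC φ K M x
  rw [this]
  exact (rhomBCEquiv φ X K M).bijective

end RHomBC

end Groth.Agent.H45.MultiDer.DTenC
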