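import Groth.Agent.H45.MultiDer.DTenCounit
import Groth.Agent.H35.KFBaseChange
import Groth.Prelude.Def_DTen4

/-!
# Functors preserving acyclicity of K-flat complexes; base change; tensor of K-flat complexes
-/

set_option autoImplicit false
universe u
open CategoryTheory CategoryTheory.Limits MonoidalCategory
attribute [local instance] HasDerivedCategory.standard

namespace Groth.Agent.H45.MultiDer.DTenC

open Groth.Agent.H5 Groth.Agent.H35 HomologicalComplex

lemma quasiIso_iff_exactAt_mappingCone {𝒜 : Type*} [Category 𝒜] [Abelian 𝒜]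
    {K L : CochainComplex 𝒜 ℤ} (φ : K ⟶ L) :
    QuasiIso φ ↔ ∀ n, (CochainComplex.mappingCone φ).ExactAt n := by
  rw [← HomologicalComplex.mem_quasiIso_iff, ← HomotopyCategory.quotient_map_mem_quasiIso_iff,
    HomotopyCategory.quasiIso_eq_trW_subcategoryAcyclic,
    ← HomotopyCategory.quotient_obj_mem_subcategoryAcyclic_iff_exactAt]
  exact (HomotopyCategory.subcategoryAcyclic 𝒜).trW_iff_of_distinguished _
    (HomotopyCategory.mappingCone_triangleh_distinguished φ)

variable {R : Type u} [CommRing R]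

/-- A functor which preserves acyclicity of K-flat complexes sends quasi-isomorphisms between
K-flat complexes to quasi-isomorphisms. -/
lemma quasiIso_map_of_kfAcyclic {B : Type*} [Category B] [Abelian B]
    (F : ModuleCat.{u} R ⥤ B) [F.Additive] (hF : LT.KFAcyclic F)
    {K K' : DRing.Cx R} (φ : K ⟶ K') [hφ : QuasiIso φ] (hK : DRing.IsKFlat R K)
    (hK' : DRing.IsKFlat R K') :
    QuasiIso ((F.mapHomologicalComplex (ComplexShape.up ℤ)).map φ) := by
  rw [quasiIso_iff_exactAt_mappingCone] at hφ ⊢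
  have h1 : KF.IsKFlat (CochainComplex.mappingCone φ) :=
    (KF.isKFlat_mappingCone_two_of_three φ).1 hK hK'
  have h2 := hF _ h1 hφ
  intro n
  exact (h2 n).of_iso (CochainComplex.mappingCone.mapHomologicalComplexIso φ F)

/-- The tensor product of two K-flat complexes is K-flat. -/
lemma isKFlat_tensor {K L : DRing.Cx R} (hK : DRing.IsKFlat R K) (hL : DRing.IsKFlat R L) :
    DRing.IsKFlat R (K ⊗ L) := by
  intro F hF i
  have h1 := hL (F ⊗ K) (hK F hF) i
  exact h1.of_iso ((HomologicalComplex.homologyFunctor _ _ i).mapIso (α_ F K L).symm)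

section BaseChange

variable {A : Type u} [CommRing A] (φ : R →+* A)

lemma isKFlat_extCx {K : DRing.Cx R} (hK : DRing.IsKFlat R K) :
    DRing.IsKFlat A ((DTen.extCx φ).obj K) :=
  KFBC.isKFlat_extendScalars φ K hK

lemma quasiIso_extCx_map {K K' : DRing.Cx R} (f : K ⟶ K') [QuasiIso f]
    (hK : DRing.IsKFlat R K) (hK' : DRing.IsKFlat R K') :
    QuasiIso ((DTen.extCx φ).map f) :=
  quasiIso_map_of_kfAcyclic _ (LT.kfAcyclic_extendScalars φ) f hK hK'

/-- `extCx` preserves homotopies. -/
noncomputable def extCxHomotopy {K K' : DRing.Cx R} {f g : K ⟶ K'} (h : Homotopy f g) :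
    Homotopy ((DTen.extCx φ).map f) ((DTen.extCx φ).map g) :=
  (ModuleCat.extendScalars.{u, u, u} φ).mapHomotopy h

lemma mixT_map {P P' : DRing.Cx R × DRing.Cx A} (f : P ⟶ P') :
    (DTen.mixT φ).map f = (DTen.extCx φ).map f.1 ▷ P.2 ≫ (DTen.extCx φ).obj P'.1 ◁ f.2 := rfl

lemma mix₂_inverts_he :
    ((HomologicalComplex.homotopyEquivalences (ModuleCat.{u} R) (ComplexShape.up ℤ)).prod
      (HomologicalComplex.homotopyEquivalences (ModuleCat.{u} A) (ComplexShape.up ℤ))).IsInvertedBy
      (DTen.mix₂ φ) :=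
  isInvertedBy₂ _ (fun _ _ _ _ h₁ h₂ =>
    DerivedCategory.Q_map_eq_of_homotopy _ (tensorHomotopy (extCxHomotopy φ h₁) h₂))

/-- The counit of the mixed derived tensor product is an isomorphism as soon as the first
complex is K-flat. -/
theorem isIso_εMix [DTen.HasLTenMix φ] (K : DRing.Cx R) (N : DRing.Cx A)
    (hK : DRing.IsKFlat R K) : IsIso ((DTen.εMix φ).app (K, N)) :=
  isIso_counit₂ (hyp R) (hypTop A) (DTen.mix₂ φ) (mix₂_inverts_he φ)
    (fun P P' f h₁ _ h₁' _ hf₁ hf₂ => by
      have := quasiIso_extCx_map φ f.1 h₁ h₁'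
      have : QuasiIso ((DTen.extCx φ).map f.1 ▷ P.2 ≫ (DTen.extCx φ).obj P'.1 ◁ f.2) :=
        quasiIso_tensor_of_kflat_left _ _ (isKFlat_extCx φ h₁) (isKFlat_extCx φ h₁')
      exact (DerivedCategory.isIso_Q_map_iff_quasiIso _ _).2 this)
    (DTen.LTenMix φ) (DTen.εMix φ) K N hK trivial

end BaseChange

end Groth.Agent.H45.MultiDer.DTenC
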