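import Groth.Prelude.Def_DTen3

/-!
# The curry map `RHom(K ⊗^L L, M) ⟶ RHom(K, RHom(L, M))` is an isomorphism
-/

set_option autoImplicit false
universe u
open CategoryTheory CategoryTheory.Limits MonoidalCategory
attribute [local instance] HasDerivedCategory.standard

namespace Groth.Agent.H45.MultiDer.DTenC

open DTen

variable {A : Type u} [CommRing A] [DTen.HasLTen A]

lemma LTen₂_map_id_id (K L : Dual.D A) :
    (LTen₂ A).map (Prod.mkHom (𝟙 K) (𝟙 L)) = 𝟙 _ := by
  erw [← prod_id, CategoryTheory.Functor.map_id]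

variable [DTen.HasLTen₃ A] [DTen.IsSymMonoidal A]

lemma associator_naturality_left {X X' : Dual.D A} (f : X ⟶ X') (K L : Dual.D A) :
    (LTen₂ A).map (Prod.mkHom ((LTen₂ A).map (Prod.mkHom f (𝟙 K))) (𝟙 L)) ≫
        (associator X' K L).hom =
      (associator X K L).hom ≫ (LTen₂ A).map (Prod.mkHom f (𝟙 ((LTen₂ A).obj (K, L)))) := by
  rw [← cancel_mono ((assocR A).app (X', (K, L)))]
  rw [Category.assoc, Category.assoc, associator_hom_assocR]
  have h1 : (LTen₂ A).map (Prod.mkHom ((LTen₂ A).map (Prod.mkHom f (𝟙 K))) (𝟙 L)) ≫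
      (assocL A).app (X', (K, L)) = (assocL A).app (X, (K, L)) ≫
        (LTen₃ A).map (Prod.mkHom f (Prod.mkHom (𝟙 K) (𝟙 L))) :=
    (assocL A).naturality
      (Prod.mkHom f (Prod.mkHom (𝟙 K) (𝟙 L)) : (X, (K, L)) ⟶ (X', (K, L)))
  have h2 : (LTen₂ A).map (Prod.mkHom f ((LTen₂ A).map (Prod.mkHom (𝟙 K) (𝟙 L)))) ≫
      (assocR A).app (X', (K, L)) = (assocR A).app (X, (K, L)) ≫
        (LTen₃ A).map (Prod.mkHom f (Prod.mkHom (𝟙 K) (𝟙 L))) :=
    (assocR A).naturality
      (Prod.mkHom f (Prod.mkHom (𝟙 K) (𝟙 L)) : (X, (K, L)) ⟶ (X', (K, L)))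
  rw [LTen₂_map_id_id] at h2
  rw [h1, h2, associator_hom_assocR_assoc]
  rfl

variable [DTen.HasRHom A]

/-- The bijection `Hom(X, RHom(K ⊗ L, M)) ≃ Hom(X, RHom(K, RHom(L, M)))`. -/
noncomputable def curryEquiv (X K L M : Dual.D A) :
    (X ⟶ (RHomR A ((LTen₂ A).obj (K, L))).obj M) ≃ (X ⟶ (RHomR A K).obj ((RHomR A L).obj M)) :=
  (rhomHomEquiv X ((LTen₂ A).obj (K, L)) M).symm.trans
    (((associator X K L).symm.homFromEquiv (Z := M)).trans
      ((rhomHomEquiv ((LTen₂ A).obj (X, K)) L M).trans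
        (rhomHomEquiv X K ((RHomR A L).obj M))))

lemma comp_curryHom {X : Dual.D A} (K L M : Dual.D A)
    (f : X ⟶ (RHomR A ((LTen₂ A).obj (K, L))).obj M) :
    f ≫ curryHom K L M = curryEquiv X K L M f := by
  have e1 := (Adjunction.homEquiv_naturality_left (rhomAdj A K) f
    (rhomHomEquiv _ _ _ (curryHomAux K L M))).symm
  have e2 := (Adjunction.homEquiv_naturality_left (rhomAdj A L) ((tensorRightD A K).map f)
    (curryHomAux K L M)).symm
  have e3 : (tensorRightD A L).map ((tensorRightD A K).map f) ≫ curryHomAux K L M =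
      (associator X K L).hom ≫ (rhomHomEquiv X ((LTen₂ A).obj (K, L)) M).symm f := by
    dsimp only [curryHomAux, rhomHomEquiv]
    rw [Adjunction.homEquiv_counit]
    have := associator_naturality_left f K L
    dsimp at this ⊢
    rw [← Category.assoc, this, Category.assoc]
  dsimp only [curryHom]
  refine e1.trans ?_
  dsimp only [curryEquiv, Equiv.trans_apply]
  refine congrArg _ ?_
  refine e2.trans ?_
  refine congrArg _ ?_
  exact e3

theorem isIso_curryHom (K L M : Dual.D A) : IsIso (curryHom K L M) := by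
  apply isIso_of_yoneda_map_bijective
  intro X
  have : (fun (x : X ⟶ (RHomR A ((LTen₂ A).obj (K, L))).obj M) => x ≫ curryHom K L M) =
      curryEquiv X K L M := by
    funext x
    exact comp_curryHom K L M x
  rw [this]
  exact (curryEquiv X K L M).bijective

end Groth.Agent.H45.MultiDer.DTenC
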