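import Groth.Agent.H45.MultiDer.LData
import Groth.Agent.H5.TriDeriv

/-!
# Left derivability data from triangulated subcategories with enough left resolutions

Left-handed version of `Groth.Agent.H5.TriDeriv`: if `𝒜`, `ℬ` are triangulated subcategories of a
triangulated category `C` such that any `X` admits `s : Y ⟶ X` with `Y ∈ 𝒜` and `s ∈ ℬ.trW`, then
the localizer morphism `𝒜.triangulatedLocalizerMorphism ℬ` satisfies `LData`.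
-/

set_option autoImplicit false
open CategoryTheory CategoryTheory.Limits Pretriangulated

namespace Groth.Agent.H45.MultiDer.TriLeft

open Groth.Agent.H5

variable {C : Type*} [Category C] [HasZeroObject C] [HasShift C ℤ] [Preadditive C]
  [∀ (n : ℤ), (shiftFunctor C n).Additive] [Pretriangulated C] [IsTriangulated C]
  (𝒜 ℬ : ObjectProperty C) [𝒜.IsTriangulated] [ℬ.IsTriangulated]
  [𝒜.IsClosedUnderIsomorphisms] [ℬ.IsClosedUnderIsomorphisms]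
  (hres : ∀ X : C, ∃ (Y : C) (s : Y ⟶ X), 𝒜 Y ∧ ℬ.trW s)

include hres

lemma isVerdierLeftLocalizing : 𝒜.IsVerdierLeftLocalizing ℬ := by
  rw [ObjectProperty.isVerdierLeftLocalizing_iff]
  intro X Y s hY hs
  obtain ⟨Z, b, hZ, hb⟩ := hres X
  exact ⟨Z, b ≫ s, b, hZ,
    TriDeriv.trW_inf_of_trW' 𝒜 ℬ _ hZ hY (ℬ.trW.comp_mem _ _ hb hs), rfl⟩

/-- the localizer morphism -/
abbrev Φ := 𝒜.triangulatedLocalizerMorphism ℬ

omit [IsTriangulated C] [ℬ.IsTriangulated] [𝒜.IsClosedUnderIsomorphisms]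
  [ℬ.IsClosedUnderIsomorphisms] in
lemma hasLeftResolutions : (Φ 𝒜 ℬ).HasLeftResolutions := by
  intro X
  obtain ⟨Y, s, hY, hs⟩ := hres X
  exact ⟨{ X₁ := ⟨Y, hY⟩, w := s, hw := hs }⟩

lemma isLocalizedEquivalence : (Φ 𝒜 ℬ).IsLocalizedEquivalence := by
  have := isVerdierLeftLocalizing 𝒜 ℬ hres
  have := hasLeftResolutions 𝒜 ℬ hres
  let L₁ := ((ℬ.inverseImage 𝒜.ι).trW).Q
  let L₂ := (ℬ.trW).Q
  let G := (Φ 𝒜 ℬ).localizedFunctor L₁ L₂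
  have : ((Φ 𝒜 ℬ).functor ⋙ L₂).EssSurj := (Φ 𝒜 ℬ).essSurj_of_hasLeftResolutions L₂
  have : G.EssSurj := ⟨fun Y => by
    obtain ⟨X, ⟨e⟩⟩ : ∃ X, Nonempty (((Φ 𝒜 ℬ).functor ⋙ L₂).obj X ≅ Y) :=
      ⟨_, ⟨((Φ 𝒜 ℬ).functor ⋙ L₂).objObjPreimageIso Y⟩⟩
    exact ⟨L₁.obj X, ⟨((CatCommSq.iso (Φ 𝒜 ℬ).functor L₁ L₂ G).symm.app X) ≪≫ e⟩⟩⟩
  have : G.IsEquivalence := { }
  exact LocalizerMorphism.IsLocalizedEquivalence.mk' (Φ 𝒜 ℬ) L₁ L₂ G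

lemma isConnected_leftResolution (X : C) : IsConnected ((Φ 𝒜 ℬ).LeftResolution X) := by
  have : Nonempty ((Φ 𝒜 ℬ).LeftResolution X) := hasLeftResolutions 𝒜 ℬ hres X
  refine zigzag_isConnected (fun R R' => ?_)
  obtain ⟨ψ, hψ⟩ := MorphismProperty.HasRightCalculusOfFractions.exists_rightFraction
    (W := ℬ.trW) ({ Y' := X, f := R.w, s := R'.w, hs := R'.hw } :
      ℬ.trW.LeftFraction R.X₁.obj R'.X₁.obj)
  dsimp at hψ
  obtain ⟨Z, r, hZ, hr⟩ := hres ψ.X'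
  let R'' : (Φ 𝒜 ℬ).LeftResolution X :=
    { X₁ := ⟨Z, hZ⟩
      w := r ≫ ψ.s ≫ R.w
      hw := ℬ.trW.comp_mem _ _ hr (ℬ.trW.comp_mem _ _ ψ.hs R.hw) }
  let a : R'' ⟶ R := { f := ObjectProperty.homMk (r ≫ ψ.s), comm := Category.assoc _ _ _ }
  let b : R'' ⟶ R' :=
    { f := ObjectProperty.homMk (r ≫ ψ.f)
      comm := by
        change (r ≫ ψ.f) ≫ R'.w = r ≫ ψ.s ≫ R.w
        rw [Category.assoc, ← hψ] }
  exact (Zigzag.of_inv a).trans (Zigzag.of_hom b)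

lemma hasLeftResolutions_arrow : (Φ 𝒜 ℬ).arrow.HasLeftResolutions := by
  intro f
  obtain ⟨Rl⟩ := hasLeftResolutions 𝒜 ℬ hres f.left
  obtain ⟨Rr⟩ := hasLeftResolutions 𝒜 ℬ hres f.right
  obtain ⟨ψ, hψ⟩ := MorphismProperty.HasRightCalculusOfFractions.exists_rightFraction
    (W := ℬ.trW) ({ Y' := f.right, f := Rl.w ≫ f.hom, s := Rr.w, hs := Rr.hw } :
      ℬ.trW.LeftFraction Rl.X₁.obj Rr.X₁.obj)
  dsimp at hψ
  obtain ⟨Z, r, hZ, hr⟩ := hres ψ.X'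
  let Rl' : (Φ 𝒜 ℬ).LeftResolution f.left :=
    { X₁ := ⟨Z, hZ⟩
      w := r ≫ ψ.s ≫ Rl.w
      hw := ℬ.trW.comp_mem _ _ hr (ℬ.trW.comp_mem _ _ ψ.hs Rl.hw) }
  exact ⟨{ X₁ := Arrow.mk (ObjectProperty.homMk (r ≫ ψ.f) : Rl'.X₁ ⟶ Rr.X₁)
           w := Arrow.homMk Rl'.w Rr.w (by
            change (r ≫ ψ.s ≫ Rl.w) ≫ f.hom = (r ≫ ψ.f) ≫ Rr.w
            rw [Category.assoc r ψ.f, ← hψ]
            simp only [Category.assoc])
           hw := ⟨Rl'.hw, Rr.hw⟩ }⟩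

theorem ldata : LData (Φ 𝒜 ℬ) where
  id₁ := inferInstance
  id₂ := inferInstance
  locEq := isLocalizedEquivalence 𝒜 ℬ hres
  conn := isConnected_leftResolution 𝒜 ℬ hres
  arrow := hasLeftResolutions_arrow 𝒜 ℬ hres

end Groth.Agent.H45.MultiDer.TriLeft
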