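import Groth.Agent.H45.MultiDer.Setting
import Groth.Agent.H45.MultiDer.TriLeft
import Groth.Agent.H5.ResDerivLeft

/-!
# The setting attached to a class of complexes with enough left resolutions

For an abelian category `A` and a class `kf` of cochain complexes satisfying
`H5.ResDerivLeft.Hyp` (e.g. K-flat complexes, or all complexes), we construct the
`Setting` whose localizer morphism is the inclusion in `K(A)` of the complexes homotopy equivalent
to a complex in `kf`.
-/

set_option autoImplicit false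
universe w v u
open CategoryTheory CategoryTheory.Limits Pretriangulated

namespace Groth.Agent.H45.MultiDer.CxSetting

open Groth.Agent.H5

variable {A : Type u} [Category.{v} A] [Abelian A]
  {kf : ObjectProperty (CochainComplex A ℤ)} (Hkf : ResDerivLeft.Hyp kf)

variable (kf) in
/-- The localizer morphism: inclusion of (the closure of) `kf` in the homotopy category. -/
noncomputable abbrev Φ [(ResDerivLeft.𝒜 kf).IsTriangulated] :
    LocalizerMorphism ((ResDerivLeft.ℬ A).inverseImage (ResDerivLeft.𝒜 kf).ι).trW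
      (ResDerivLeft.ℬ A).trW :=
  (ResDerivLeft.𝒜 kf).triangulatedLocalizerMorphism (ResDerivLeft.ℬ A)

include Hkf in
theorem setting [(ResDerivLeft.𝒜 kf).IsTriangulated] :
    Setting (Φ kf) (HomotopyCategory.quotient A (ComplexShape.up ℤ))
      (HomologicalComplex.quasiIso A (ComplexShape.up ℤ)) kf := by
  refine ⟨TriLeft.ldata (ResDerivLeft.𝒜 kf) (ResDerivLeft.ℬ A) (ResDerivLeft.hres Hkf), ?_, ?_⟩
  · intro P hP
    exact ⟨⟨_, ResDerivLeft.𝒜_quotient_obj P hP⟩, ⟨Iso.refl _⟩⟩
  · intro X Y f hf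
    obtain ⟨X₀, hX₀, ⟨eX⟩⟩ := X.property
    obtain ⟨Y₀, hY₀, ⟨eY⟩⟩ := Y.property
    obtain ⟨P, rfl⟩ := X₀.quotient_obj_surjective
    obtain ⟨P', rfl⟩ := Y₀.quotient_obj_surjective
    replace hX₀ := (ResDerivLeft.𝒜₀_quotient_obj_iff P).1 hX₀
    replace hY₀ := (ResDerivLeft.𝒜₀_quotient_obj_iff P').1 hY₀
    obtain ⟨φ, hφ⟩ := (HomotopyCategory.quotient _ _).map_surjective (eX.inv ≫ f.hom ≫ eY.hom)
    refine ⟨P, P', hX₀, hY₀, eX, eY, φ, ?_, hφ⟩
    rw [ObjectProperty.trW_inverseImage_ι_iff] at hf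
    have hf' : (ResDerivLeft.ℬ A).trW f.hom :=
      ObjectProperty.trW_monotone
        (inf_le_right : ResDerivLeft.𝒜 kf ⊓ ResDerivLeft.ℬ A ≤ ResDerivLeft.ℬ A) _ hf
    have h1 : (ResDerivLeft.ℬ A).trW (eX.inv ≫ f.hom ≫ eY.hom) := by
      rw [MorphismProperty.cancel_left_of_respectsIso (ResDerivLeft.ℬ A).trW,
        MorphismProperty.cancel_right_of_respectsIso (ResDerivLeft.ℬ A).trW]
      exact hf'
    rw [← hφ, ← HomotopyCategory.quasiIso_eq_trW_subcategoryAcyclic,
      HomotopyCategory.quotient_map_mem_quasiIso_iff] at h1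
    exact h1

variable (A) in
/-- `Qh` is a localization functor for `ℬ.trW` (which is equal to the class of
quasi-isomorphisms). -/
lemma isLocalization_Qh [HasDerivedCategory.{w} A] :
    (DerivedCategory.Qh (C := A)).IsLocalization (ResDerivLeft.ℬ A).trW := by
  rw [← HomotopyCategory.quasiIso_eq_trW_subcategoryAcyclic]
  infer_instance

variable (A) in
/-- All complexes: the trivial instance of `Hyp`. -/
lemma hyp_top : ResDerivLeft.Hyp (⊤ : ObjectProperty (CochainComplex A ℤ)) where
  zero := trivial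
  shift _ _ _ := trivial
  cone _ _ _ := trivial
  res G := ⟨G, 𝟙 G, trivial, inferInstance⟩

end Groth.Agent.H45.MultiDer.CxSetting
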