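import Groth.Agent.H45.MultiDer.Main
import Groth.Agent.H45.MultiDer.HomotopyInv
import Groth.Agent.H35.LTensorRing
import Groth.Agent.H35.KFSingle
import Groth.Prelude.Def_DTen2
import Mathlib.Algebra.Homology.BifunctorHomotopy

/-!
# The counits of the derived tensor products on `D(A)` are isomorphisms on K-flat complexes
-/

set_option autoImplicit false
universe u
open CategoryTheory CategoryTheory.Limits MonoidalCategory
attribute [local instance] HasDerivedCategory.standard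

namespace Groth.Agent.H45.MultiDer.DTenC

open Groth.Agent.H5 Groth.Agent.H35 HomologicalComplex

variable (A : Type u) [CommRing A]

/-- The class of K-flat complexes. -/
def kfl : ObjectProperty (DRing.Cx A) := fun K => DRing.IsKFlat A K

lemma hyp : ResDerivLeft.Hyp (kfl A) := LT.hyp A

lemma hypTop : ResDerivLeft.Hyp (⊤ : ObjectProperty (DRing.Cx A)) :=
  CxSetting.hyp_top (ModuleCat.{u} A)

variable {A}

lemma tensorT_map {P P' : DRing.Cx A × DRing.Cx A} (φ : P ⟶ P') :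
    (DTen.tensorT A).map φ = φ.1 ▷ P.2 ≫ P'.1 ◁ φ.2 := rfl

/-- Homotopy invariance of the tensor product of complexes. -/
noncomputable def tensorHomotopy {K K' L L' : DRing.Cx A} {f f' : K ⟶ K'} {g g' : L ⟶ L'}
    (h₁ : Homotopy f f') (h₂ : Homotopy g g') :
    Homotopy (f ▷ L ≫ K' ◁ g) (f' ▷ L ≫ K' ◁ g') :=
  Homotopy.comp
    (mapBifunctorMapHomotopy₁ h₁ (𝟙 L) (curriedTensor (ModuleCat.{u} A)) (ComplexShape.up ℤ))
    (mapBifunctorMapHomotopy₂ (𝟙 K') h₂ (curriedTensor (ModuleCat.{u} A)) (ComplexShape.up ℤ))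

lemma quasiIso_tensor_of_kflat_right {K K' L L' : DRing.Cx A} (f : K ⟶ K') (g : L ⟶ L')
    [QuasiIso f] [QuasiIso g] (hL : DRing.IsKFlat A L) (hK' : DRing.IsKFlat A K') :
    QuasiIso (f ▷ L ≫ K' ◁ g) := by
  have h1 : QuasiIso (f ▷ L) := KF.quasiIso_whiskerRight_of_isKFlat hL f
  have h2 : QuasiIso (K' ◁ g) :=
    KF.quasiIso_whiskerLeft_of_left_flat K' (KF.isZero_homology_tensor_left_of_isKFlat hK') g
  infer_instance

lemma quasiIso_tensor_of_kflat_left {K K' L L' : DRing.Cx A} (f : K ⟶ K') (g : L ⟶ L')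
    [QuasiIso f] [QuasiIso g] (hK : DRing.IsKFlat A K) (hK' : DRing.IsKFlat A K') :
    QuasiIso (f ▷ L ≫ K' ◁ g) := by
  have h1 : QuasiIso (f ▷ L) := KF.quasiIso_whiskerRight_of_isKFlat' hK hK' f L
  have h2 : QuasiIso (K' ◁ g) :=
    KF.quasiIso_whiskerLeft_of_left_flat K' (KF.isZero_homology_tensor_left_of_isKFlat hK') g
  infer_instance

lemma quasiIso_tensor_of_kflat_snd {K K' L L' : DRing.Cx A} (f : K ⟶ K') (g : L ⟶ L')
    [QuasiIso f] [QuasiIso g] (hL : DRing.IsKFlat A L) (hL' : DRing.IsKFlat A L') :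
    QuasiIso (f ▷ L ≫ K' ◁ g) := by
  have h1 : QuasiIso (f ▷ L) := KF.quasiIso_whiskerRight_of_isKFlat hL f
  have h2 : QuasiIso (K' ◁ g) := KF.quasiIso_whiskerLeft_of_isKFlat hL hL' g K'
  infer_instance

variable (A)

lemma tensor₂_inverts_he :
    ((HomologicalComplex.homotopyEquivalences (ModuleCat.{u} A) (ComplexShape.up ℤ)).prod
      (HomologicalComplex.homotopyEquivalences (ModuleCat.{u} A) (ComplexShape.up ℤ))).IsInvertedBy
      (DTen.tensor₂ A) :=
  isInvertedBy₂ _ (fun _ _ _ _ h₁ h₂ =>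
    DerivedCategory.Q_map_eq_of_homotopy _ (tensorHomotopy h₁ h₂))

variable {A}

/-- `KFlatComputes`: the counit `QK ⊗^L QL ⟶ Q(K ⊗ L)` is an isomorphism as soon as `K` or `L`
is K-flat. -/
theorem isIso_ε [DTen.HasLTen A] (K L : DRing.Cx A) (h : DRing.IsKFlat A K ∨ DRing.IsKFlat A L) :
    IsIso ((DTen.ε A).app (K, L)) := by
  rcases h with h | h
  · exact isIso_counit₂ (hyp A) (hypTop A) (DTen.tensor₂ A) (tensor₂_inverts_he A)
      (fun P P' φ h₁ _ h₁' _ hφ₁ hφ₂ => by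
        have : QuasiIso (φ.1 ▷ P.2 ≫ P'.1 ◁ φ.2) := quasiIso_tensor_of_kflat_left _ _ h₁ h₁'
        exact (DerivedCategory.isIso_Q_map_iff_quasiIso _ _).2 this)
      (DTen.LTen₂ A) (DTen.ε A) K L h trivial
  · exact isIso_counit₂ (hypTop A) (hyp A) (DTen.tensor₂ A) (tensor₂_inverts_he A)
      (fun P P' φ _ h₂ _ h₂' hφ₁ hφ₂ => by
        have : QuasiIso (φ.1 ▷ P.2 ≫ P'.1 ◁ φ.2) := quasiIso_tensor_of_kflat_snd _ _ h₂ h₂'
        exact (DerivedCategory.isIso_Q_map_iff_quasiIso _ _).2 this)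
      (DTen.LTen₂ A) (DTen.ε A) K L trivial h

theorem kFlatComputes [DTen.HasLTen A] : DTen.KFlatComputes A := ⟨isIso_ε⟩

/-- Every object of `D(A)` is represented by a K-flat complex. -/
lemma exists_kflat_rep (a : Dual.D A) :
    ∃ K : DRing.Cx A, DRing.IsKFlat A K ∧ Nonempty (DerivedCategory.Q.obj K ≅ a) := by
  obtain ⟨X, ⟨e⟩⟩ : ∃ X : DRing.Cx A, Nonempty (DerivedCategory.Q.obj X ≅ a) :=
    ⟨_, ⟨DerivedCategory.Q.objObjPreimageIso a⟩⟩
  obtain ⟨K, q, hK, -, hq, -⟩ := KF.exists_isKFlat_resolution A X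
  have : IsIso (DerivedCategory.Q.map q) := (DerivedCategory.isIso_Q_map_iff_quasiIso _ _).2 hq
  exact ⟨K, hK, ⟨asIso (DerivedCategory.Q.map q) ≪≫ e⟩⟩

end Groth.Agent.H45.MultiDer.DTenC
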