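import Groth.Agent.H45.MultiDer.KFAcyclic
import Groth.Prelude.Def_DTen6

/-!
# The iterated mixed derived tensor products
-/

set_option autoImplicit false
universe u
open CategoryTheory CategoryTheory.Limits MonoidalCategory
attribute [local instance] HasDerivedCategory.standard

namespace Groth.Agent.H45.MultiDer.DTenC

open Groth.Agent.H5 Groth.Agent.H35 HomologicalComplex

variable {A B C : Type u} [CommRing A] [CommRing B] [CommRing C] (φ : A →+* B) (ψ : B →+* C)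

lemma mixT₃_map {P P' : DRing.Cx A × (DRing.Cx B × DRing.Cx C)} (f : P ⟶ P') :
    (DTen.mixT₃ φ ψ).map f =
      (DTen.extCx ψ).map ((DTen.extCx φ).map f.1 ▷ P.2.1 ≫ (DTen.extCx φ).obj P'.1 ◁ f.2.1) ▷ P.2.2 ≫
        (DTen.extCx ψ).obj ((DTen.extCx φ).obj P'.1 ⊗ P'.2.1) ◁ f.2.2 := rfl

lemma mix₃_inverts_he :
    ((HomologicalComplex.homotopyEquivalences (ModuleCat.{u} A) (ComplexShape.up ℤ)).prod
      ((HomologicalComplex.homotopyEquivalences (ModuleCat.{u} B) (ComplexShape.up ℤ)).prod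
      (HomologicalComplex.homotopyEquivalences (ModuleCat.{u} C) (ComplexShape.up ℤ)))).IsInvertedBy
      (DTen.mix₃ φ ψ) :=
  isInvertedBy₃ _ (fun _ _ _ _ h₁ h₂ h₃ =>
    DerivedCategory.Q_map_eq_of_homotopy _
      (tensorHomotopy (extCxHomotopy ψ (tensorHomotopy (extCxHomotopy φ h₁) h₂)) h₃))

/-- The counit of the triple mixed derived tensor product is an isomorphism on triples whose
first two complexes are K-flat. -/
theorem isIso_εMix₃ [DTen.HasLTenMix₃ φ ψ] (M : DRing.Cx A) (N : DRing.Cx B) (K : DRing.Cx C)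
    (hM : DRing.IsKFlat A M) (hN : DRing.IsKFlat B N) :
    IsIso ((DTen.εMix₃ φ ψ).app (M, (N, K))) :=
  isIso_counit₃ (hyp A) (hyp B) (hypTop C) (DTen.mix₃ φ ψ) (mix₃_inverts_he φ ψ)
    (fun P P' f h₁ h₂ _ h₁' h₂' _ hf₁ hf₂ hf₃ => by
      have := quasiIso_extCx_map φ f.1 h₁ h₁'
      have hu : QuasiIso ((DTen.extCx φ).map f.1 ▷ P.2.1 ≫ (DTen.extCx φ).obj P'.1 ◁ f.2.1) :=
        quasiIso_tensor_of_kflat_left _ _ (isKFlat_extCx φ h₁) (isKFlat_extCx φ h₁')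
      have k1 : DRing.IsKFlat B ((DTen.extCx φ).obj P.1 ⊗ P.2.1) :=
        isKFlat_tensor (isKFlat_extCx φ h₁) h₂
      have k2 : DRing.IsKFlat B ((DTen.extCx φ).obj P'.1 ⊗ P'.2.1) :=
        isKFlat_tensor (isKFlat_extCx φ h₁') h₂'
      have := quasiIso_extCx_map ψ
        ((DTen.extCx φ).map f.1 ▷ P.2.1 ≫ (DTen.extCx φ).obj P'.1 ◁ f.2.1) k1 k2
      have : QuasiIso ((DTen.extCx ψ).map
          ((DTen.extCx φ).map f.1 ▷ P.2.1 ≫ (DTen.extCx φ).obj P'.1 ◁ f.2.1) ▷ P.2.2 ≫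
          (DTen.extCx ψ).obj ((DTen.extCx φ).obj P'.1 ⊗ P'.2.1) ◁ f.2.2) :=
        quasiIso_tensor_of_kflat_left _ _ (isKFlat_extCx ψ k1) (isKFlat_extCx ψ k2)
      exact (DerivedCategory.isIso_Q_map_iff_quasiIso _ _).2 this)
    (DTen.LTenMix₃ φ ψ) (DTen.εMix₃ φ ψ) M N K hM hN trivial

section

variable [DTen.HasLTenMix φ] [DTen.HasLTenMix ψ] [DTen.HasLTenMix (ψ.comp φ)]
  [DTen.HasLTenMix₃ φ ψ]

omit [DTen.HasLTenMix (ψ.comp φ)] [DTen.HasLTenMix₃ φ ψ] in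
lemma isIso_β₃L_app (M : DRing.Cx A) (N : DRing.Cx B) (K : DRing.Cx C)
    (hM : DRing.IsKFlat A M) (hN : DRing.IsKFlat B N) :
    IsIso ((DTen.β₃L φ ψ).app (M, (N, K))) := by
  have h1 : IsIso ((DTen.εMix φ).app (M, N)) := isIso_εMix φ M N hM
  have h2 : IsIso ((DTen.εMix ψ).app ((DTen.mixT φ).obj (M, N), K)) :=
    isIso_εMix ψ _ K (isKFlat_tensor (isKFlat_extCx φ hM) hN)
  have h3 : IsIso (Prod.mkHom ((DTen.εMix φ).app (M, N)) (𝟙 (DerivedCategory.Q.obj K))) :=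
    (isIso_prod_iff _ _).2 ⟨h1, inferInstanceAs (IsIso (𝟙 _))⟩
  have h5 : IsIso ((DTen.LTenMix ψ).map
      (Prod.mkHom ((DTen.εMix φ).app (M, N)) (𝟙 (DerivedCategory.Q.obj K)))) := inferInstance
  exact @IsIso.comp_isIso _ _ _ _ _ _ _ h5 h2

omit [DTen.HasLTenMix φ] [DTen.HasLTenMix₃ φ ψ] in
lemma isIso_β₃R_app (M : DRing.Cx A) (N : DRing.Cx B) (K : DRing.Cx C)
    (hM : DRing.IsKFlat A M) (hN : DRing.IsKFlat B N) :
    IsIso ((DTen.β₃R φ ψ).app (M, (N, K))) := by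
  have h1 : IsIso ((DTen.εMix ψ).app (N, K)) := isIso_εMix ψ N K hN
  have h2 : IsIso ((DTen.εMix (ψ.comp φ)).app (M, (DTen.mixT ψ).obj (N, K))) :=
    isIso_εMix (ψ.comp φ) M _ hM
  have h3 : IsIso (Prod.mkHom (𝟙 (DerivedCategory.Q.obj M)) ((DTen.εMix ψ).app (N, K))) :=
    (isIso_prod_iff _ _).2 ⟨inferInstanceAs (IsIso (𝟙 _)), h1⟩
  have h5 : IsIso ((DTen.LTenMix (ψ.comp φ)).map
      (Prod.mkHom (𝟙 (DerivedCategory.Q.obj M)) ((DTen.εMix ψ).app (N, K)))) := inferInstance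
  have h4 : IsIso (DerivedCategory.Q.map ((DTen.θ₃ φ ψ).inv.app (M, (N, K)))) := inferInstance
  have h6 : IsIso ((DTen.εMix (ψ.comp φ)).app (M, (DTen.mixT ψ).obj (N, K)) ≫
      DerivedCategory.Q.map ((DTen.θ₃ φ ψ).inv.app (M, (N, K)))) := inferInstance
  exact @IsIso.comp_isIso _ _ _ _ _ _ _ h5 h6

/-- Both legs into the jointly derived triple mixed tensor product are isomorphisms (S14268). -/
theorem isIso_leg₃_app (E : Dual.D A) (F : Dual.D B) (G : Dual.D C) :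
    IsIso ((DTen.leg₃L φ ψ).app (E, (F, G))) ∧ IsIso ((DTen.leg₃R φ ψ).app (E, (F, G))) := by
  obtain ⟨M, hM, ⟨eM⟩⟩ := exists_kflat_rep E
  obtain ⟨N, hN, ⟨eN⟩⟩ := exists_kflat_rep F
  obtain ⟨K, -, ⟨eK⟩⟩ := exists_kflat_rep G
  let e : (DTen.QMix₃ A B C).obj (M, (N, K)) ≅ (E, (F, G)) := Iso.prod eM (Iso.prod eN eK)
  have h1 := isIso_εMix₃ φ ψ M N K hM hN
  constructor
  · rw [← NatTrans.isIso_app_iff_of_iso (DTen.leg₃L φ ψ) e]
    have h2 := isIso_β₃L_app φ ψ M N K hM hN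
    rw [← DTen.leg₃L_fac φ ψ (M, (N, K))] at h2
    exact IsIso.of_isIso_comp_right _ ((DTen.εMix₃ φ ψ).app (M, (N, K)))
  · rw [← NatTrans.isIso_app_iff_of_iso (DTen.leg₃R φ ψ) e]
    have h2 := isIso_β₃R_app φ ψ M N K hM hN
    rw [← DTen.leg₃R_fac φ ψ (M, (N, K))] at h2
    exact IsIso.of_isIso_comp_right _ ((DTen.εMix₃ φ ψ).app (M, (N, K)))

end

end Groth.Agent.H45.MultiDer.DTenC
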