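import Mathlib.CategoryTheory.Localization.DerivabilityStructure.Constructor
import Mathlib.CategoryTheory.Localization.DerivabilityStructure.Derives
import Mathlib.CategoryTheory.Localization.Prod
import Groth.Agent.H5.LeftDeriv

/-!
# Products of left derivability structures

`LData Φ` packages the hypotheses of Mathlib's constructor
`LocalizerMorphism.IsLeftDerivabilityStructure.mk'` for a localizer morphism `Φ`
(localized equivalence, connected categories of left resolutions, left resolutions of arrows).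
These hypotheses are stable under binary products (`LData.prod`), which gives left derivability
structures for functors of several variables.

Main results:
* `LData.prod`
* `LData.isLeftDerivabilityStructure`
* `LData.isIso_counit_app` : if `F` sends `W₁` to isomorphisms, the counit of any left derived
  functor of `F` is an isomorphism on the objects coming from `C₁`.
* `LData.isLeftDerivedFunctor_of_isIso` : converse criterion.
-/

set_option autoImplicit false
open CategoryTheory Opposite

namespace Groth.Agent.H45.MultiDer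

universe v₁ v₂ v₁' v₂' u₁ u₂ u₁' u₂' v₃ v₄ u₃ u₄

variable {C₁ : Type u₁} {C₂ : Type u₂} {C₁' : Type u₁'} {C₂' : Type u₂'}
  [Category.{v₁} C₁] [Category.{v₂} C₂] [Category.{v₁'} C₁'] [Category.{v₂'} C₂']
  {W₁ : MorphismProperty C₁} {W₂ : MorphismProperty C₂}
  {W₁' : MorphismProperty C₁'} {W₂' : MorphismProperty C₂'}

/-- The product of two localizer morphisms. -/
def prodLM (Φ : LocalizerMorphism W₁ W₂) (Φ' : LocalizerMorphism W₁' W₂') :
    LocalizerMorphism (W₁.prod W₁') (W₂.prod W₂') where
  functor := Φ.functor.prod Φ'.functor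
  map := by
    rintro ⟨X, X'⟩ ⟨Y, Y'⟩ ⟨f, f'⟩ ⟨hf, hf'⟩
    exact ⟨Φ.map _ hf, Φ'.map _ hf'⟩

@[simp]
lemma prodLM_functor (Φ : LocalizerMorphism W₁ W₂) (Φ' : LocalizerMorphism W₁' W₂') :
    (prodLM Φ Φ').functor = Φ.functor.prod Φ'.functor := rfl

/-- The hypotheses of `LocalizerMorphism.IsLeftDerivabilityStructure.mk'`. -/
structure LData (Φ : LocalizerMorphism W₁ W₂) : Prop where
  id₁ : W₁.ContainsIdentities
  id₂ : W₂.ContainsIdentities
  locEq : Φ.IsLocalizedEquivalence
  conn : ∀ X₂ : C₂, IsConnected (Φ.LeftResolution X₂)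
  arrow : Φ.arrow.HasLeftResolutions

namespace LData

variable {Φ : LocalizerMorphism W₁ W₂} {Φ' : LocalizerMorphism W₁' W₂'}

lemma isLeftDerivabilityStructure (h : LData Φ) : Φ.IsLeftDerivabilityStructure := by
  have := h.id₂
  have := h.locEq
  have := h.conn
  have := h.arrow
  exact LocalizerMorphism.IsLeftDerivabilityStructure.mk' Φ

/-- The identity localizer morphism satisfies `LData`. -/
lemma id (W : MorphismProperty C₁) [W.ContainsIdentities] : LData (LocalizerMorphism.id W) where
  id₁ := inferInstance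
  id₂ := inferInstance
  locEq := inferInstance
  conn X := by
    let R₀ : (LocalizerMorphism.id W).LeftResolution X :=
      { X₁ := X, w := 𝟙 X, hw := W.id_mem X }
    have : Nonempty ((LocalizerMorphism.id W).LeftResolution X) := ⟨R₀⟩
    refine zigzag_isConnected (fun R R' => ?_)
    have h : ∀ R : (LocalizerMorphism.id W).LeftResolution X, Zigzag R R₀ := fun R =>
      Zigzag.of_hom { f := R.w, comm := Category.comp_id _ }
    exact (h R).trans (h R').symm
  arrow f := ⟨{ X₁ := f, w := 𝟙 f, hw := ⟨W.id_mem _, W.id_mem _⟩ }⟩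

section Prod

/-- Pairing of left resolutions. -/
def pairObj {X : C₂} {X' : C₂'} (R : Φ.LeftResolution X) (R' : Φ'.LeftResolution X') :
    (prodLM Φ Φ').LeftResolution (X, X') :=
  { X₁ := (R.X₁, R'.X₁), w := (R.w, R'.w), hw := ⟨R.hw, R'.hw⟩ }

/-- The pairing functor in the first variable. -/
def pairL {X : C₂} {X' : C₂'} (R' : Φ'.LeftResolution X') :
    Φ.LeftResolution X ⥤ (prodLM Φ Φ').LeftResolution (X, X') where
  obj R := pairObj R R'
  map {R S} φ :=
    { f := (φ.f, 𝟙 _)
      comm := Prod.ext φ.comm (by simp [pairObj]) }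
  map_id R := by
    apply LocalizerMorphism.LeftResolution.hom_ext
    rfl
  map_comp φ ψ := by
    apply LocalizerMorphism.LeftResolution.hom_ext
    exact Prod.ext rfl (Category.comp_id _).symm

/-- The pairing functor in the second variable. -/
def pairR {X : C₂} {X' : C₂'} (R : Φ.LeftResolution X) :
    Φ'.LeftResolution X' ⥤ (prodLM Φ Φ').LeftResolution (X, X') where
  obj R' := pairObj R R'
  map {R' S'} φ :=
    { f := (𝟙 _, φ.f)
      comm := Prod.ext (by simp [pairObj]) φ.comm }
  map_id R := by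
    apply LocalizerMorphism.LeftResolution.hom_ext
    rfl
  map_comp φ ψ := by
    apply LocalizerMorphism.LeftResolution.hom_ext
    exact Prod.ext (Category.comp_id _).symm rfl

lemma pairObj_surjective (X : C₂) (X' : C₂') (R : (prodLM Φ Φ').LeftResolution (X, X')) :
    ∃ (S : Φ.LeftResolution X) (S' : Φ'.LeftResolution X'), pairObj S S' = R :=
  ⟨{ X₁ := R.X₁.1, w := R.w.1, hw := R.hw.1 }, { X₁ := R.X₁.2, w := R.w.2, hw := R.hw.2 }, rfl⟩

lemma prod (h : LData Φ) (h' : LData Φ') : LData (prodLM Φ Φ') where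
  id₁ := by
    have := h.id₁
    have := h'.id₁
    infer_instance
  id₂ := by
    have := h.id₂
    have := h'.id₂
    infer_instance
  locEq := by
    have := h.id₁
    have := h'.id₁
    have := h.id₂
    have := h'.id₂
    have := h.locEq
    have := h'.locEq
    have h1 : (Φ.functor ⋙ W₂.Q).IsLocalization W₁ := inferInstance
    have h2 : (Φ'.functor ⋙ W₂'.Q).IsLocalization W₁' := inferInstance
    have h3 : ((Φ.functor ⋙ W₂.Q).prod (Φ'.functor ⋙ W₂'.Q)).IsLocalization (W₁.prod W₁') :=
      inferInstance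
    have h4 : ((prodLM Φ Φ').functor ⋙ (W₂.Q.prod W₂'.Q)).IsLocalization (W₁.prod W₁') := h3
    exact LocalizerMorphism.IsLocalizedEquivalence.of_isLocalization_of_isLocalization
      (prodLM Φ Φ') (W₂.Q.prod W₂'.Q)
  conn := by
    rintro ⟨X, X'⟩
    have := h.conn X
    have := h'.conn X'
    have hne : Nonempty ((prodLM Φ Φ').LeftResolution (X, X')) :=
      ⟨pairObj (Classical.arbitrary _) (Classical.arbitrary _)⟩
    refine zigzag_isConnected (fun R R' => ?_)
    obtain ⟨S, S', rfl⟩ := pairObj_surjective X X' R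
    obtain ⟨T, T', rfl⟩ := pairObj_surjective X X' R'
    exact (zigzag_obj_of_zigzag (pairL S') (isPreconnected_zigzag S T)).trans
      (zigzag_obj_of_zigzag (pairR T) (isPreconnected_zigzag S' T'))
  arrow := by
    intro f
    obtain ⟨ρ⟩ := h.arrow (Arrow.mk f.hom.1)
    obtain ⟨ρ'⟩ := h'.arrow (Arrow.mk f.hom.2)
    exact ⟨{ X₁ := Arrow.mk ((ρ.X₁.hom, ρ'.X₁.hom) :
                ((ρ.X₁.left, ρ'.X₁.left) : C₁ × C₁') ⟶ (ρ.X₁.right, ρ'.X₁.right))
             w := Arrow.homMk ((ρ.w.left, ρ'.w.left) :
                  ((Φ.functor.obj ρ.X₁.left, Φ'.functor.obj ρ'.X₁.left) : C₂ × C₂') ⟶ f.left)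
                ((ρ.w.right, ρ'.w.right) :
                  ((Φ.functor.obj ρ.X₁.right, Φ'.functor.obj ρ'.X₁.right) : C₂ × C₂') ⟶ f.right)
                (Prod.ext ρ.w.w ρ'.w.w)
             hw := ⟨⟨ρ.hw.1, ρ'.hw.1⟩, ⟨ρ.hw.2, ρ'.hw.2⟩⟩ }⟩

end Prod

section Counit

variable {D : Type u₃} {H : Type u₄} [Category.{v₃} D] [Category.{v₄} H]

/-- If `Φ` satisfies `LData` and `F` sends `W₁` to isomorphisms, then the counit of any left
derived functor of `F` is an isomorphism on objects coming from `C₁`. -/
theorem isIso_counit_app (h : LData Φ) (F : C₂ ⥤ H) (hF : Φ.Derives F)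
    (L : C₂ ⥤ D) [L.IsLocalization W₂] (LF : D ⥤ H) (α : L ⋙ LF ⟶ F)
    [LF.IsLeftDerivedFunctor α W₂] (X₁ : C₁) : IsIso (α.app (Φ.functor.obj X₁)) := by
  have hΦ := h.isLeftDerivabilityStructure
  rw [LocalizerMorphism.isLeftDerivabilityStructure_iff_op] at hΦ
  have hD : Φ.op.Derives F.op := by
    intro X Y f hf
    have : IsIso (F.map (Φ.functor.map f.unop)) := hF f.unop hf
    change IsIso (F.map (Φ.functor.map f.unop)).op
    infer_instance
  have := hD.hasPointwiseRightDerivedFunctor
  have : F.op.HasRightDerivedFunctor W₂.op := inferInstance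
  refine Groth.Agent.H5.LeftDeriv.isIso_counit_app_of_op L W₂ F _ ?_ LF α
  exact hD.isIso_of_isRightDerivedFunctor (F.op.totalRightDerivedUnit L.op W₂.op) (op X₁)

/-- Converse: if the counit is an isomorphism on the objects coming from `C₁`, then it exhibits
`LF` as a left derived functor. -/
theorem isLeftDerivedFunctor_of_isIso (h : LData Φ) (F : C₂ ⥤ H) (hF : Φ.Derives F)
    (L : C₂ ⥤ D) [L.IsLocalization W₂] (LF : D ⥤ H) (α : L ⋙ LF ⟶ F)
    (hα : ∀ X₁ : C₁, IsIso (α.app (Φ.functor.obj X₁))) :
    LF.IsLeftDerivedFunctor α W₂ := by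
  have hΦ := h.isLeftDerivabilityStructure
  rw [LocalizerMorphism.isLeftDerivabilityStructure_iff_op] at hΦ
  have hD : Φ.op.Derives F.op := by
    intro X Y f hf
    have : IsIso (F.map (Φ.functor.map f.unop)) := hF f.unop hf
    change IsIso (F.map (Φ.functor.map f.unop)).op
    infer_instance
  have h1 : LF.op.IsRightDerivedFunctor (Groth.Agent.H5.LeftDeriv.opTrans L F LF α) W₂.op := by
    refine hD.isRightDerivedFunctor_of_isIso (Groth.Agent.H5.LeftDeriv.opTrans L F LF α)
      (fun X₁ => ?_)
    have := hα X₁.unop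
    change IsIso (α.app (Φ.functor.obj X₁.unop)).op
    infer_instance
  exact Groth.Agent.H5.LeftDeriv.isLeftDerivedFunctor_unop L W₂ F LF.op
    (Groth.Agent.H5.LeftDeriv.opTrans L F LF α)

end Counit

end LData

end Groth.Agent.H45.MultiDer
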