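import Mathlib.CategoryTheory.Functor.Derived.LeftDerived
import Mathlib.CategoryTheory.Localization.Predicate

/-!
# Transfer of left derived functors along an intermediate localization

Let `q : C ⥤ C'` be a localization functor (for `Wq`), `L' : C' ⥤ D` a localization functor for
`W'` such that `q ⋙ L'` is a localization functor for `W`. Let `F : C ⥤ H` be a functor which
factors through `q` as `F'`. Then a functor `LF : D ⥤ H` equipped with `α : (q ⋙ L') ⋙ LF ⟶ F`
is a left derived functor of `F` iff `LF` equipped with the descended `α' : L' ⋙ LF ⟶ F'` is a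
left derived functor of `F'`.
-/

set_option autoImplicit false
open CategoryTheory

namespace Groth.Agent.H45.MultiDer.Transfer

universe v v' v₃ v₄ u u' u₃ u₄

variable {C : Type u} {C' : Type u'} {D : Type u₃} {H : Type u₄}
  [Category.{v} C] [Category.{v'} C'] [Category.{v₃} D] [Category.{v₄} H]
  (q : C ⥤ C') (Wq : MorphismProperty C) [q.IsLocalization Wq]
  (L' : C' ⥤ D) (W : MorphismProperty C) (W' : MorphismProperty C')
  [L'.IsLocalization W'] [(q ⋙ L').IsLocalization W]
  (F : C ⥤ H) (F' : C' ⥤ H) [Localization.Lifting q Wq F F']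
  (LF : D ⥤ H)

omit [q.IsLocalization Wq] [L'.IsLocalization W'] [(q ⋙ L').IsLocalization W]
  [Localization.Lifting q Wq F F'] in
lemma aux {A B C₀ D₀ : H} (a : A ⟶ B) (b : B ⟶ C₀) (c : C₀ ⟶ D₀) (d : D₀ ⟶ C₀)
    (h : c ≫ d = 𝟙 _) : (a ≫ b ≫ c) ≫ d = a ≫ b := by
  rw [Category.assoc, Category.assoc, h, Category.comp_id]

/-- Descend a counit along `q`. -/
noncomputable def descend (α : q ⋙ (L' ⋙ LF) ⟶ F) : L' ⋙ LF ⟶ F' :=
  Localization.liftNatTrans q Wq (q ⋙ (L' ⋙ LF)) F (L' ⋙ LF) F' α

lemma descend_app (α : q ⋙ (L' ⋙ LF) ⟶ F) (X : C) :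
    (descend q Wq L' F F' LF α).app (q.obj X) =
      α.app X ≫ (Localization.Lifting.iso q Wq F F').inv.app X := by
  dsimp [descend]
  rw [Localization.liftNatTrans_app]
  dsimp [Localization.Lifting.iso, Localization.Lifting.compLeft]
  rw [Category.id_comp]

/-- Lift a counit along `q`. -/
def ascend (α' : L' ⋙ LF ⟶ F') : q ⋙ (L' ⋙ LF) ⟶ F :=
  Functor.whiskerLeft q α' ≫ (Localization.Lifting.iso q Wq F F').hom

omit [q.IsLocalization Wq] in
lemma ascend_app (α' : L' ⋙ LF ⟶ F') (X : C) :
    (ascend q Wq L' F F' LF α').app X =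
      α'.app (q.obj X) ≫ (Localization.Lifting.iso q Wq F F').hom.app X := rfl

lemma descend_ascend (α' : L' ⋙ LF ⟶ F') :
    descend q Wq L' F F' LF (ascend q Wq L' F F' LF α') = α' := by
  apply Localization.natTrans_ext q Wq
  intro X
  rw [descend_app, ascend_app, Category.assoc, Iso.hom_inv_id_app]
  exact Category.comp_id _

lemma ascend_descend (α : q ⋙ (L' ⋙ LF) ⟶ F) :
    ascend q Wq L' F F' LF (descend q Wq L' F F' LF α) = α := by
  ext X
  rw [ascend_app, descend_app, Category.assoc, Iso.inv_hom_id_app]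
  exact Category.comp_id _

theorem isLeftDerivedFunctor_descend (α : q ⋙ (L' ⋙ LF) ⟶ F)
    [hα : LF.IsLeftDerivedFunctor (L := q ⋙ L') α W] :
    LF.IsLeftDerivedFunctor (descend q Wq L' F F' LF α) W' := by
  let β : ∀ (E : Functor.RightExtension L' F'), (q ⋙ L') ⋙ E.left ⟶ F := fun E =>
    ascend q Wq L' F F' E.left E.hom
  constructor
  constructor
  refine ⟨Limits.IsTerminal.ofUniqueHom
    (fun E => CostructuredArrow.homMk
      (LF.leftDerivedLift (L := q ⋙ L') α W E.left (β E)) ?_) ?_⟩
  · apply Localization.natTrans_ext q Wq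
    intro X
    have h := LF.leftDerived_fac_app (L := q ⋙ L') α W E.left (β E) X
    change (LF.leftDerivedLift (L := q ⋙ L') α W E.left (β E)).app (L'.obj (q.obj X)) ≫
      (descend q Wq L' F F' LF α).app (q.obj X) = E.hom.app (q.obj X)
    rw [descend_app, ← Category.assoc]
    erw [h]
    rw [ascend_app, Category.assoc, Iso.hom_inv_id_app]
    exact Category.comp_id _
  · intro E m
    ext Y
    have h1 : m.left = LF.leftDerivedLift (L := q ⋙ L') α W E.left (β E) := by
      apply LF.leftDerived_ext (L := q ⋙ L') α W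
      rw [Functor.leftDerived_fac]
      ext X
      have := congr_app m.w (q.obj X)
      change m.left.app (L'.obj (q.obj X)) ≫ (descend q Wq L' F F' LF α).app (q.obj X) =
        E.hom.app (q.obj X) ≫ 𝟙 _ at this
      rw [descend_app, Category.comp_id] at this
      change m.left.app (L'.obj (q.obj X)) ≫ α.app X = (ascend q Wq L' F F' E.left E.hom).app X
      rw [ascend_app, ← this]
      exact (aux _ _ _ _ (Iso.inv_hom_id_app (Localization.Lifting.iso q Wq F F') X)).symm
    exact congr_app h1 Y

theorem isLeftDerivedFunctor_ascend (α' : L' ⋙ LF ⟶ F')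
    [hα : LF.IsLeftDerivedFunctor α' W'] :
    LF.IsLeftDerivedFunctor (L := q ⋙ L') (ascend q Wq L' F F' LF α') W := by
  let β : ∀ (E : Functor.RightExtension (q ⋙ L') F), L' ⋙ E.left ⟶ F' := fun E =>
    descend q Wq L' F F' E.left E.hom
  constructor
  constructor
  refine ⟨Limits.IsTerminal.ofUniqueHom
    (fun E => CostructuredArrow.homMk
      (LF.leftDerivedLift α' W' E.left (β E)) ?_) ?_⟩
  · ext X
    have h := LF.leftDerived_fac_app α' W' E.left (β E) (q.obj X)
    change (LF.leftDerivedLift α' W' E.left (β E)).app (L'.obj (q.obj X)) ≫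
      (ascend q Wq L' F F' LF α').app X = E.hom.app X
    rw [ascend_app, ← Category.assoc]
    erw [h]
    rw [descend_app, Category.assoc, Iso.inv_hom_id_app]
    exact Category.comp_id _
  · intro E m
    ext Y
    have h1 : m.left = LF.leftDerivedLift α' W' E.left (β E) := by
      apply LF.leftDerived_ext α' W'
      rw [Functor.leftDerived_fac]
      apply Localization.natTrans_ext q Wq
      intro X
      have := congr_app m.w X
      change m.left.app (L'.obj (q.obj X)) ≫ (ascend q Wq L' F F' LF α').app X =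
        E.hom.app X ≫ 𝟙 _ at this
      rw [ascend_app, Category.comp_id] at this
      change m.left.app (L'.obj (q.obj X)) ≫ α'.app (q.obj X) =
        (descend q Wq L' F F' E.left E.hom).app (q.obj X)
      rw [descend_app, ← this]
      exact (aux _ _ _ _ (Iso.hom_inv_id_app (Localization.Lifting.iso q Wq F F') X)).symm
    exact congr_app h1 Y

end Groth.Agent.H45.MultiDer.Transfer
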