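import Groth.Agent.H45.MultiDer.LData
import Groth.Agent.H45.MultiDer.Transfer

/-!
# Settings for deriving functors of several variables

A `Setting Φ q W kf` consists of a localizer morphism `Φ : (C₁, W₁) ⟶ (C₂, W₂)` satisfying
`LData`, a functor `q : C ⥤ C₂` (in practice the quotient functor from complexes to the homotopy
category, or a product of such), a class of morphisms `W` in `C` and a class of objects `kf` of
`C` (the "adapted" objects, e.g. K-flat complexes), such that `W₁`-morphisms in `C₁` are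
represented by `W`-morphisms between `kf`-objects. Settings are stable under products.

Main results for a functor `F : C ⥤ H` which factors through `q` and inverts the `W`-morphisms
between `kf`-objects:
* `Setting.isIso_counit` : the counit of a left derived functor is an isomorphism on `kf`-objects;
* `Setting.isLeftDerivedFunctor_of_isIso` : the converse;
* `Setting.hasLeftDerivedFunctor` : existence.
-/

set_option autoImplicit false
open CategoryTheory

namespace Groth.Agent.H45.MultiDer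

universe v₁ v₂ v v₁' v₂' v' u₁ u₂ u u₁' u₂' u' v₃ v₄ u₃ u₄

variable {C₁ : Type u₁} {C₂ : Type u₂} {C : Type u}
  [Category.{v₁} C₁] [Category.{v₂} C₂] [Category.{v} C]
  {W₁ : MorphismProperty C₁} {W₂ : MorphismProperty C₂}

/-- See the module docstring. -/
structure Setting (Φ : LocalizerMorphism W₁ W₂) (q : C ⥤ C₂) (W : MorphismProperty C)
    (kf : ObjectProperty C) : Prop where
  ldata : LData Φ
  mem : ∀ P : C, kf P → ∃ X₁ : C₁, Nonempty (Φ.functor.obj X₁ ≅ q.obj P)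
  lift : ∀ ⦃X Y : C₁⦄ (f : X ⟶ Y), W₁ f → ∃ (P P' : C) (_ : kf P) (_ : kf P')
      (eX : Φ.functor.obj X ≅ q.obj P) (eY : Φ.functor.obj Y ≅ q.obj P') (φ : P ⟶ P'),
      W φ ∧ q.map φ = eX.inv ≫ Φ.functor.map f ≫ eY.hom

namespace Setting

section Prod

variable {C₁' : Type u₁'} {C₂' : Type u₂'} {C' : Type u'}
  [Category.{v₁'} C₁'] [Category.{v₂'} C₂'] [Category.{v'} C']
  {W₁' : MorphismProperty C₁'} {W₂' : MorphismProperty C₂'}
  {Φ : LocalizerMorphism W₁ W₂} {q : C ⥤ C₂} {W : MorphismProperty C} {kf : ObjectProperty C}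
  {Φ' : LocalizerMorphism W₁' W₂'} {q' : C' ⥤ C₂'} {W' : MorphismProperty C'}
  {kf' : ObjectProperty C'}

/-- The product of two classes of objects. -/
def prodProp (kf : ObjectProperty C) (kf' : ObjectProperty C') : ObjectProperty (C × C') :=
  fun P => kf P.1 ∧ kf' P.2

lemma prod (S : Setting Φ q W kf) (S' : Setting Φ' q' W' kf') :
    Setting (prodLM Φ Φ') (q.prod q') (W.prod W') (prodProp kf kf') where
  ldata := S.ldata.prod S'.ldata
  mem := by
    rintro ⟨P, P'⟩ ⟨hP, hP'⟩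
    obtain ⟨X₁, ⟨e⟩⟩ := S.mem P hP
    obtain ⟨X₁', ⟨e'⟩⟩ := S'.mem P' hP'
    exact ⟨(X₁, X₁'), ⟨Iso.prod e e'⟩⟩
  lift := by
    rintro ⟨X, X'⟩ ⟨Y, Y'⟩ ⟨f, f'⟩ ⟨hf, hf'⟩
    obtain ⟨P, Q, hP, hQ, eX, eY, φ, hφ, h⟩ := S.lift f hf
    obtain ⟨P', Q', hP', hQ', eX', eY', φ', hφ', h'⟩ := S'.lift f' hf'
    exact ⟨(P, P'), (Q, Q'), ⟨hP, hP'⟩, ⟨hQ, hQ'⟩, Iso.prod eX eX', Iso.prod eY eY',
      (φ, φ'), ⟨hφ, hφ'⟩, Prod.ext h h'⟩

end Prod

section Main

variable {Φ : LocalizerMorphism W₁ W₂} {q : C ⥤ C₂} {W : MorphismProperty C}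
  {kf : ObjectProperty C} (S : Setting Φ q W kf)
  (Wq : MorphismProperty C) [q.IsLocalization Wq]
  {D : Type u₃} {H : Type u₄} [Category.{v₃} D] [Category.{v₄} H]
  (L₂ : C₂ ⥤ D) [L₂.IsLocalization W₂] [(q ⋙ L₂).IsLocalization W]
  (F : C ⥤ H) (hFq : Wq.IsInvertedBy F)
  (hF : ∀ ⦃P P' : C⦄ (φ : P ⟶ P'), kf P → kf P' → W φ → IsIso (F.map φ))

include S in
lemma mem' (X₁ : C₁) : ∃ P : C, kf P ∧ Nonempty (Φ.functor.obj X₁ ≅ q.obj P) := by
  have := S.ldata.id₁
  obtain ⟨P, _, hP, _, eX, _, _, _, _⟩ := S.lift (𝟙 X₁) (W₁.id_mem X₁)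
  exact ⟨P, hP, ⟨eX⟩⟩

/-- The functor induced by `F` on `C₂`. -/
noncomputable abbrev F' (q : C ⥤ C₂) (Wq : MorphismProperty C) [q.IsLocalization Wq]
    (F : C ⥤ H) (hFq : Wq.IsInvertedBy F) : C₂ ⥤ H := Localization.lift F hFq q

include S hF Wq hFq in
lemma derives : Φ.Derives (F' q Wq F hFq) := by
  intro X Y f hf
  obtain ⟨P, P', hP, hP', eX, eY, φ, hφ, h⟩ := S.lift f hf
  have h1 : IsIso (F.map φ) := hF φ hP hP' hφ
  have h2 : IsIso ((q ⋙ F' q Wq F hFq).map φ) :=
    (NatIso.isIso_map_iff (Localization.Lifting.iso q Wq F (F' q Wq F hFq)) φ).2 h1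
  have h3 : Φ.functor.map f = eX.hom ≫ q.map φ ≫ eY.inv := by
    rw [h]
    simp
  change IsIso ((F' q Wq F hFq).map (Φ.functor.map f))
  rw [h3, Functor.map_comp, Functor.map_comp]
  have : IsIso ((F' q Wq F hFq).map (q.map φ)) := h2
  infer_instance

include S hF Wq hFq in
/-- The counit of a left derived functor is an isomorphism on `kf`-objects. -/
theorem isIso_counit (LF : D ⥤ H) (α : q ⋙ (L₂ ⋙ LF) ⟶ F)
    [LF.IsLeftDerivedFunctor (L := q ⋙ L₂) α W] (P : C) (hP : kf P) : IsIso (α.app P) := by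
  have := Transfer.isLeftDerivedFunctor_descend q Wq L₂ W W₂ F (F' q Wq F hFq) LF α
  obtain ⟨X₁, ⟨e⟩⟩ := S.mem P hP
  have h1 := S.ldata.isIso_counit_app (F' q Wq F hFq) (S.derives Wq F hFq hF) L₂ LF
    (Transfer.descend q Wq L₂ F (F' q Wq F hFq) LF α) X₁
  have h2 : IsIso ((Transfer.descend q Wq L₂ F (F' q Wq F hFq) LF α).app (q.obj P)) :=
    (NatTrans.isIso_app_iff_of_iso _ e).1 h1
  rw [Transfer.descend_app] at h2
  exact IsIso.of_isIso_comp_right (α.app P)
    ((Localization.Lifting.iso q Wq F (F' q Wq F hFq)).inv.app P)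

include S hF Wq hFq in
/-- If the counit is an isomorphism on `kf`-objects, it exhibits `LF` as a left derived
functor. -/
theorem isLeftDerivedFunctor_of_isIso (LF : D ⥤ H) (α : q ⋙ (L₂ ⋙ LF) ⟶ F)
    (hα : ∀ P : C, kf P → IsIso (α.app P)) :
    LF.IsLeftDerivedFunctor (L := q ⋙ L₂) α W := by
  have h1 : ∀ X₁ : C₁, IsIso ((Transfer.descend q Wq L₂ F (F' q Wq F hFq) LF α).app
      (Φ.functor.obj X₁)) := by
    intro X₁
    obtain ⟨P, hP, ⟨e⟩⟩ := S.mem' X₁
    rw [NatTrans.isIso_app_iff_of_iso _ e, Transfer.descend_app]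
    have := hα P hP
    infer_instance
  have h2 := S.ldata.isLeftDerivedFunctor_of_isIso (F' q Wq F hFq) (S.derives Wq F hFq hF) L₂ LF
    (Transfer.descend q Wq L₂ F (F' q Wq F hFq) LF α) h1
  have h3 := Transfer.isLeftDerivedFunctor_ascend q Wq L₂ W W₂ F (F' q Wq F hFq) LF
    (Transfer.descend q Wq L₂ F (F' q Wq F hFq) LF α)
  rwa [Transfer.ascend_descend] at h3

include S hF Wq hFq L₂ in
/-- Existence of the left derived functor. -/
theorem hasLeftDerivedFunctor : F.HasLeftDerivedFunctor W := by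
  have hΦ := S.ldata.isLeftDerivabilityStructure
  rw [LocalizerMorphism.isLeftDerivabilityStructure_iff_op] at hΦ
  have hD := S.derives Wq F hFq hF
  have hDop : Φ.op.Derives (F' q Wq F hFq).op := by
    intro X Y f hf
    have : IsIso ((F' q Wq F hFq).map (Φ.functor.map f.unop)) := hD f.unop hf
    change IsIso ((F' q Wq F hFq).map (Φ.functor.map f.unop)).op
    infer_instance
  have := hDop.hasPointwiseRightDerivedFunctor
  have : (F' q Wq F hFq).op.HasRightDerivedFunctor W₂.op := inferInstance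
  have h' : (F' q Wq F hFq).HasLeftDerivedFunctor W₂ :=
    Groth.Agent.H5.LeftDeriv.hasLeftDerivedFunctor_of_op W₂ (F' q Wq F hFq)
  have := Transfer.isLeftDerivedFunctor_ascend q Wq L₂ W W₂ F (F' q Wq F hFq)
    ((F' q Wq F hFq).totalLeftDerived L₂ W₂) ((F' q Wq F hFq).totalLeftDerivedCounit L₂ W₂)
  exact Functor.HasLeftDerivedFunctor.mk' (L := q ⋙ L₂)
    (LF := (F' q Wq F hFq).totalLeftDerived L₂ W₂)
    (α := Transfer.ascend q Wq L₂ F (F' q Wq F hFq) _ ((F' q Wq F hFq).totalLeftDerivedCounit L₂ W₂))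

end Main

end Setting

end Groth.Agent.H45.MultiDer
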